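import Mathlib.Algebra.Group.Subgroup.Map
import Mathlib.GroupTheory.Subgroup.Center
import Mathlib.GroupTheory.Commutator.Basic
import Mathlib.Tactic.Group
import Cfsg.Agent.H920.FiTwoMain
import Cfsg.Agent.H936.AltBig2
import Cfsg.Agent.H489.DegBase
import Cfsg.Agent.H51.ONSeven
import Cfsg.Agent.S2052
import Mathlib
import Cfsg.Agent.H95.LSx.Sub
import Cfsg.Agent.H912.CrossList_m3
import Cfsg.Agent.S2086
import Cfsg.Agent.S0249
import Cfsg.Agent.S0295
import Cfsg.Agent.S0302
import Cfsg.Agent.H921.SporMore_m3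
import Cfsg.Agent.H868.HeFi24
import Cfsg.Agent.H175.BdSp_m3
import Cfsg.Agent.HN.CoverUnique
import Cfsg.Agent.HN.TwoClasses
import Cfsg.Agent.S2056
import Cfsg.Agent.Ly.Setup
import Cfsg.Agent.S2050
import Cfsg.Agent.Th.Main1700
import Cfsg.Agent.Th.KFacts
import Cfsg.Agent.S2057
import Cfsg.Agent.FastGrp
import Cfsg.Agent.Prune
set_option linter.all false

section
prune_inst 0x7ffcfcf9efb9bddfffff7e7ffffedffffbfdbfffffdff9cbffe4ebff8bdf4b3febc5fbaf0fe8d8fe8ef6e2bc10f87b53fbfffeffea6ffc7ffffdfff41ffbff9fffffb5ac71dcbcbe1ffe6fff93f07fce7f3fffffffffffffffffffffffffffffffffffffffff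

-- part: H806/LsCent
section
set_option linter.all false
open scoped Cfsg.Agent.FastGrp

/-!
# Central extensions: the action of the quotient and commutators of lifts

`CE π`: `π : P →* T` is surjective with central kernel. `cj h : T →* MulAut P` is the action by conjugation,
`br h a x = x⁻¹ * cj h a x`.
-/

set_option autoImplicit false

universe u v

namespace Cfsg.Agent.H806.Ls

variable {P : Type v} [Group P] {T : Type u} [Group T]

/-- `π` is a central extension. -/
structure CE (π : P →* T) : Prop where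
  surj : Function.Surjective π
  cen : ∀ c, π c = 1 → ∀ g, g * c = c * g

namespace CE

variable {π : P →* T}

theorem conj_eq (h : CE π) {x y : P} (hxy : π x = π y) : MulAut.conj x = MulAut.conj y := by
  have hc : π (y⁻¹ * x) = 1 := by rw [map_mul, map_inv, hxy, inv_mul_cancel]
  ext z
  rw [MulAut.conj_apply, MulAut.conj_apply]
  have := h.cen _ hc z
  calc x * z * x⁻¹ = y * ((y⁻¹ * x) * z) * x⁻¹ := by group
    _ = y * (z * (y⁻¹ * x)) * x⁻¹ := by rw [this]
    _ = y * z * y⁻¹ := by group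

/-- the action of the quotient -/
noncomputable def cj (h : CE π) : T →* MulAut P where
  toFun t := MulAut.conj (Function.surjInv h.surj t)
  map_one' := by
    rw [h.conj_eq (y := 1) (by rw [Function.surjInv_eq h.surj, map_one]), map_one]
  map_mul' a b := by
    rw [← map_mul]
    apply h.conj_eq
    rw [map_mul, Function.surjInv_eq h.surj, Function.surjInv_eq h.surj, Function.surjInv_eq h.surj]

theorem cj_eq (h : CE π) (p x : P) : h.cj (π p) x = p * x * p⁻¹ := by
  change MulAut.conj _ x = _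
  rw [h.conj_eq (y := p) (Function.surjInv_eq _ _), MulAut.conj_apply]

theorem map_cj (h : CE π) (a : T) (x : P) : π (h.cj a x) = a * π x * a⁻¹ := by
  obtain ⟨p, rfl⟩ := h.surj a
  rw [h.cj_eq, map_mul, map_mul, map_inv]

theorem cj_ker (h : CE π) (a : T) {c : P} (hc : π c = 1) : h.cj a c = c := by
  obtain ⟨p, rfl⟩ := h.surj a
  rw [h.cj_eq, h.cen c hc, mul_assoc, mul_inv_cancel, mul_one]

/-- the commutator -/
noncomputable def br (h : CE π) (a : T) (x : P) : P := x⁻¹ * h.cj a x

variable (h : CE π)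

theorem cj_br (a : T) (x : P) : h.cj a x = x * h.br a x := by
  unfold br; rw [mul_inv_cancel_left]

theorem br_ker {a : T} {x : P} (hax : a * π x = π x * a) : π (h.br a x) = 1 := by
  unfold br
  rw [map_mul, map_inv, h.map_cj, hax]
  group

/-- Multiplying by a central element. -/
theorem cj_mul_ker (a : T) (x : P) {c : P} (hc : π c = 1) : h.cj a (x * c) = h.cj a x * c := by
  rw [map_mul, h.cj_ker a hc]

theorem br_mul_ker (a : T) (x : P) {c : P} (hc : π c = 1) : h.br a (x * c) = h.br a x := by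
  unfold br
  rw [h.cj_mul_ker a x hc, mul_inv_rev, mul_assoc, ← mul_assoc x⁻¹, h.cen c hc, inv_mul_cancel_left]

/-- The commutator depends only on the images. -/
theorem br_congr (a : T) {x y : P} (hxy : π x = π y) : h.br a x = h.br a y := by
  have hc : π (y⁻¹ * x) = 1 := by rw [map_mul, map_inv, hxy, inv_mul_cancel]
  have := h.br_mul_ker a y hc
  rwa [mul_inv_cancel_left] at this

/-- Conjugation of commutators of commuting elements. -/
theorem br_conj {a a' u : T} {x x' : P} (hax : a * π x = π x * a) (ha' : a' = u * a * u⁻¹)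
    (hx' : π x' = u * π x * u⁻¹) : h.br a' x' = h.br a x := by
  have h1 : h.br a' x' = h.br a' (h.cj u x) := h.br_congr a' (by rw [hx', h.map_cj])
  have h2 : h.br a' (h.cj u x) = h.cj u (h.br a x) := by
    unfold br
    rw [map_mul, map_inv, ha', ← MulAut.mul_apply, ← MulAut.mul_apply, ← map_mul, ← map_mul]
    congr 3
    group
  rw [h1, h2, h.cj_ker u (h.br_ker hax)]

theorem br_mul_right {a : T} {x y : P} (hax : a * π x = π x * a) : h.br a (x * y) = h.br a x * h.br a y := by
  have h1 := h.cen _ (h.br_ker hax)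
  unfold br at *
  rw [map_mul, mul_inv_rev]
  calc y⁻¹ * x⁻¹ * (h.cj a x * h.cj a y) = (y⁻¹ * (x⁻¹ * h.cj a x)) * h.cj a y := by group
    _ = ((x⁻¹ * h.cj a x) * y⁻¹) * h.cj a y := by rw [h1]
    _ = _ := by group

theorem br_mul_left {a b : T} {x : P} (hbx : b * π x = π x * b) :
    h.br (a * b) x = h.br a x * h.br b x := by
  have h1 : h.cj (a * b) x = h.cj a x * h.br b x := by
    rw [map_mul, MulAut.mul_apply, h.cj_br b x, h.cj_mul_ker _ _ (h.br_ker hbx)]
  unfold br at h1 ⊢
  rw [h1]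
  group

theorem br_one_left (x : P) : h.br 1 x = 1 := by
  unfold br; rw [map_one, MulAut.one_apply, inv_mul_cancel]

/-- `br a x` has square `1` if `a` is an involution. -/
theorem br_sq {a : T} {x : P} (hax : a * π x = π x * a) (ha : a * a = 1) : h.br a x * h.br a x = 1 := by
  rw [← h.br_mul_left hax, ha, h.br_one_left]

/-- The action on words. -/
theorem cj_fix_mul {a b : T} {x : P} (ha : h.cj a x = x) (hb : h.cj b x = x) : h.cj (a * b) x = x := by
  rw [map_mul, MulAut.mul_apply, hb, ha]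

theorem cj_fix_iff {a : T} {x : P} : h.cj a x = x ↔ h.br a x = 1 := by
  unfold br
  rw [inv_mul_eq_one, eq_comm]

end CE

end Cfsg.Agent.H806.Ls

private theorem dce_19863c4e7cb7 : _root_.True := by
  try have : _root_.True := by simp only [_root_.Cfsg.Agent.H806.Ls.CE.cj.congr_simp]
  exact _root_.True.intro
end

-- part: H806/LsFiTwo
section
prune_inst 0x2030200420220000000000000200004000000002000000000000070202400040000008000210051000000c0000000000001000100000000000000000000400000020100200000000000000000000000000000000000000000000000000000000000000000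
set_option linter.all false
open scoped Cfsg.Agent.FastGrp

-- part: H806/LsTwo
section
/-!
# The bound `LS 2 28 T` from the affine Weyl group of type `E₇` (helper806)

`Ctx t g` (helper920) : `t 0, …, t 6` a quotient of the Weyl group of type `E₇`, `g` the affine node, commuting with the
reflection in the highest root. For a simple group `T` containing such elements with `T t g ≠ 1` each nontrivial
representation, in characteristic `≠ 2`, of each perfect central extension of `T` has degree at least `28`.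
-/

set_option autoImplicit false
set_option linter.unusedSectionVars false

universe u v w

namespace Cfsg.Agent.H806.Ls

open Cfsg.Agent.H921.Spor Cfsg.Agent.H921.Spor.Cox Cfsg.Agent.ChevalleyStructure.WeylData Cfsg.Agent.H920
open Cfsg.Agent.H920.FiTwo (Ctx ths W DA DO DC same ex nb step SW adj Rep)

namespace Two

variable {P : Type v} [Group P] {G : Type u} [Group G] {π : P →* G} (h : CE π) {t : ℕ → G} {g : G} (hc : Ctx t g)

/-- the word of the central involution of the Weyl group -/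
def w0 : List ℕ := rp [6, 5, 4, 3, 2, 0, 1] 9

theorem check_w0 : ((List.range 7).all fun a => eqW certE7 (a :: w0) (w0 ++ [a])) = true := by rw [eqW_eq]; decide +kernel

theorem check_adj : ([(1, 3), (2, 3), (4, 3), (5, 4), (6, 5)].all fun e : ℕ × ℕ =>
    eqW certE7 [e.1, e.2, e.1] [e.2, e.1, e.2]) = true := by rw [eqW_eq]; decide +kernel

theorem check_01 : eqW certE7 [0, 1] [1, 0] = true := by rw [eqW_eq]; decide +kernel

/-- `t_0` fixes the sum of the highest root and its image -/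
theorem check_swap : same (ths ++ [0]) (0 :: (ths ++ [0])) [7] = true := by delta same; rw [eqW_eq]; decide +kernel

include hc

theorem tt {a : ℕ} (ha : a < 7) : t a * t a = 1 := hc.pre.sq ha

theorem w0_comm {w : List ℕ} (hw : ∀ a ∈ w, a < 7) : ev t w * ev t w0 = ev t w0 * ev t w := by
  induction w with
  | nil => simp
  | cons a w ih =>
    have h1 := hc.pre.eq (List.all_eq_true.1 check_w0 a (List.mem_range.2 (hw a List.mem_cons_self)))
    rw [ev_cons, ev_append, ev_cons, ev_nil, mul_one] at h1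
    rw [ev_cons, mul_assoc, ih fun b hb => hw b (List.mem_cons_of_mem _ hb), ← mul_assoc, h1, mul_assoc]

omit hc in
theorem conj_of_braid {a b : G} (hb : a * b * a = b * a * b) : b = (a * b) * a * (a * b)⁻¹ := by
  rw [hb]; group

omit hc in
theorem comm_conj {a b x : G} (ha : a * x = x * a) (hb : b * x = x * b) : x = (a * b) * x * (a * b)⁻¹ := by
  rw [mul_assoc a b x, hb, ← mul_assoc, ha]; group

theorem br_const {x : P} (hx : ∀ a, 1 ≤ a → a < 7 → t a * π x = π x * t a) {a : ℕ} (h1 : 1 ≤ a) (h2 : a < 7) :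
    h.br (t a) x = h.br (t 3) x := by
  have key : ∀ e ∈ [(1, 3), (2, 3), (4, 3), (5, 4), (6, 5)], h.br (t e.1) x = h.br (t e.2) x := by
    intro e he
    have h3 := hc.pre.eq (List.all_eq_true.1 check_adj e he)
    simp only [ev_cons, ev_nil, mul_one, ← mul_assoc] at h3
    have h4 : ∀ e ∈ [((1 : ℕ), (3 : ℕ)), (2, 3), (4, 3), (5, 4), (6, 5)], 1 ≤ e.1 ∧ e.1 < 7 ∧ 1 ≤ e.2 ∧ e.2 < 7 := by
      decide
    obtain ⟨h5, h6, h7, h8⟩ := h4 e he
    exact (h.br_conj (u := t e.1 * t e.2) (hx _ h5 h6) (conj_of_braid h3)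
      (comm_conj (hx _ h5 h6) (hx _ h7 h8))).symm
  have k1 := key (1, 3) (by simp)
  have k2 := key (2, 3) (by simp)
  have k3 := key (4, 3) (by simp)
  have k4 := key (5, 4) (by simp)
  have k5 := key (6, 5) (by simp)
  simp only at k1 k2 k3 k4 k5
  interval_cases a
  · exact k1
  · exact k2
  · rfl
  · exact k3
  · exact k4.trans k3
  · exact k5.trans (k4.trans k3)

theorem br_T {x : P} (hx : π x = FiTwo.T t g) {a : ℕ} (h1 : 1 ≤ a) (h2 : a < 7) : h.br (t a) x = 1 := by
  obtain ⟨gh, hgh⟩ := h.surj g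
  obtain ⟨sh, hsh⟩ := h.surj (ev t ths)
  have cg : ∀ a, 1 ≤ a → a < 7 → t a * π gh = π gh * t a := fun a ha hb => by rw [hgh]; exact (hc.gt a ha hb).symm
  have cs : ∀ a, 1 ≤ a → a < 7 → t a * π sh = π sh * t a := fun a ha hb => by
    rw [hsh]; exact (hc.s_comm_letter ha hb).symm
  have e0 : h.br (t a) x = h.br (t a) (gh * sh) := h.br_congr _ (by rw [hx, map_mul, hgh, hsh]; rfl)
  rw [e0, h.br_mul_right (cg a h1 h2), br_const h hc cg h1 h2, br_const h hc cs h1 h2]
  have e1 : h.br (t 3) sh = h.br (t 3) gh := by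
    rw [← br_const h hc cs (a := 1) (by norm_num) (by norm_num), ← br_const h hc cg (a := 1) (by norm_num) (by norm_num)]
    have b1 : t 0 * g * t 0 = g * t 0 * g := hc.g0.symm
    have b2 : ev t ths * t 0 * ev t ths = t 0 * ev t ths * t 0 := hc.braid
    have c01 : t 0 * t 1 = t 1 * t 0 := by
      have := hc.pre.eq check_01
      simpa only [ev_cons, ev_nil, mul_one] using this
    have cs1 := hc.s_comm_letter (a := 1) (by norm_num) (by norm_num)
    have cg1 := hc.gt 1 (by norm_num) (by norm_num)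
    refine h.br_conj (u := (t 0 * ev t ths) * (g * t 0)) (cg 1 (by norm_num) (by norm_num)) ?_ ?_
    · have e1 : (g * t 0) * t 1 = t 1 * (g * t 0) := by rw [mul_assoc, c01, ← mul_assoc, cg1, mul_assoc]
      have e2 : (t 0 * ev t ths) * t 1 = t 1 * (t 0 * ev t ths) := by
        rw [mul_assoc, cs1, ← mul_assoc, c01, mul_assoc]
      have e3 : (t 0 * ev t ths) * (g * t 0) * t 1 = t 1 * ((t 0 * ev t ths) * (g * t 0)) := by
        rw [mul_assoc, e1, ← mul_assoc, e2, mul_assoc]
      rw [e3]; group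
    · rw [hgh, hsh]
      have e1 : (g * t 0) * g * (g * t 0)⁻¹ = t 0 := (conj_of_braid hc.g0).symm
      have e2 : (t 0 * ev t ths) * t 0 * (t 0 * ev t ths)⁻¹ = ev t ths := (conj_of_braid b2.symm).symm
      calc ev t ths = (t 0 * ev t ths) * t 0 * (t 0 * ev t ths)⁻¹ := e2.symm
        _ = (t 0 * ev t ths) * ((g * t 0) * g * (g * t 0)⁻¹) * (t 0 * ev t ths)⁻¹ := by rw [e1]
        _ = _ := by group
  rw [e1]
  exact h.br_sq (cg 3 (by norm_num) (by norm_num)) (tt hc (by norm_num))

theorem fix_letter {x : P} (hx : π x = FiTwo.T t g) {a : ℕ} (h1 : 1 ≤ a) (h2 : a < 7) : h.cj (t a) x = x :=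
  h.cj_fix_iff.2 (br_T h hc hx h1 h2)

theorem fix_word {x : P} (hx : π x = FiTwo.T t g) {w : List ℕ} (hw : ∀ a ∈ w, 1 ≤ a ∧ a < 7) :
    h.cj (ev t w) x = x := by
  induction w with
  | nil => rw [ev_nil, map_one, MulAut.one_apply]
  | cons a w ih =>
    rw [ev_cons]
    obtain ⟨h1, h2⟩ := hw a List.mem_cons_self
    exact h.cj_fix_mul (fix_letter h hc hx h1 h2) (ih fun b hb => hw b (List.mem_cons_of_mem _ hb))

theorem map_cj_ev {x : P} (hx : π x = FiTwo.T t g) (w : List ℕ) : π (h.cj (ev t w) x) = FiTwo.u t g w := by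
  rw [h.map_cj, hx]; rfl

theorem w0_comm_T : ev t w0 * FiTwo.T t g = FiTwo.T t g * ev t w0 := by
  have h1 := hc.pre.eq FiTwo.check5
  rw [ev_append] at h1
  have h2 : ∀ w : List ℕ, (∀ a ∈ w, 1 ≤ a ∧ a < 7) → ev t w * FiTwo.T t g = FiTwo.T t g * ev t w := by
    intro w hw
    induction w with
    | nil => simp
    | cons a w ih =>
      obtain ⟨h3, h4⟩ := hw a List.mem_cons_self
      rw [ev_cons, mul_assoc, ih fun b hb => hw b (List.mem_cons_of_mem _ hb), ← mul_assoc,
        hc.T_comm_letter h3 h4, mul_assoc]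
  have h3 := h2 (rp [6, 5, 4, 3, 2, 1] 5) (by decide)
  have h4 : ev t w0 = ev t ths * (ev t (rp [6, 5, 4, 3, 2, 1] 5))⁻¹ := by
    rw [h1]; unfold w0; group
  rw [h4]
  have h5 : (ev t (rp [6, 5, 4, 3, 2, 1] 5))⁻¹ * FiTwo.T t g = FiTwo.T t g * (ev t (rp [6, 5, 4, 3, 2, 1] 5))⁻¹ := by
    rw [inv_mul_eq_iff_eq_mul, ← mul_assoc, h3]; group
  rw [mul_assoc, h5, ← mul_assoc, hc.T_comm_s, mul_assoc]

theorem br_w0 {x : P} (hx : π x = FiTwo.T t g) : h.br (ev t w0) x = 1 := by
  have hcomm : ev t w0 * π x = π x * ev t w0 := by rw [hx]; exact w0_comm_T hc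
  have key : ∀ w : List ℕ, (∀ a ∈ w, a < 7) → h.br (ev t w0) (h.cj (ev t w) x) = h.br (ev t w0) x := by
    intro w hw
    refine h.br_conj (u := ev t w) hcomm ?_ (h.map_cj _ _)
    rw [w0_comm hc hw]; group
  have h1 : h.br (ev t w0) (x * h.cj (ev t [0]) x) = h.br (ev t w0) (h.cj (ev t (ths ++ [0])) x) := by
    apply h.br_congr
    rw [map_mul, map_cj_ev h hc hx, map_cj_ev h hc hx, ← hc.add0, hc.u_nil, hx]
  rw [h.br_mul_right hcomm, key [0] (by decide), key (ths ++ [0]) (by decide)] at h1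
  exact mul_eq_left.1 h1

theorem fix_ths {x : P} (hx : π x = FiTwo.T t g) : h.cj (ev t ths) x = x := by
  have h1 := hc.pre.eq FiTwo.check5
  rw [ev_append] at h1
  rw [h1]
  exact h.cj_fix_mul (h.cj_fix_iff.2 (br_w0 h hc hx)) (fix_word h hc hx (by decide))

theorem fix_ex {x : P} (hx : π x = FiTwo.T t g) {l : List ℕ} (hl : ∀ a ∈ l, 1 ≤ a ∧ a ≤ 7) :
    h.cj (ev t (ex l)) x = x := by
  induction l with
  | nil => rw [ex, ev_nil, map_one, MulAut.one_apply]
  | cons a l ih =>
    have ih' := ih fun b hb => hl b (List.mem_cons_of_mem _ hb)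
    obtain ⟨h1, h2⟩ := hl a List.mem_cons_self
    unfold ex
    split_ifs with h7
    · rw [ev_append]; exact h.cj_fix_mul (fix_ths h hc hx) ih'
    · rw [ev_cons]; exact h.cj_fix_mul (fix_letter h hc hx h1 (by omega)) ih'

theorem Y_same {x : P} (hx : π x = FiTwo.T t g) {w w' l : List ℕ} (hs : same w w' l = true) :
    h.cj (ev t w') x = h.cj (ev t w) x := by
  unfold FiTwo.same at hs
  rw [Bool.and_eq_true, List.all_eq_true] at hs
  have h1 : ∀ a ∈ l, 1 ≤ a ∧ a ≤ 7 := by
    intro a ha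
    have := hs.1 a ha
    rw [Bool.and_eq_true] at this
    exact ⟨Nat.le_of_ble_eq_true this.1, Nat.le_of_ble_eq_true this.2⟩
  rw [hc.pre.eq hs.2, ev_append, map_mul, MulAut.mul_apply, fix_ex h hc hx h1]

/-- The canonical lift. -/
theorem exists_lift : ∃ x : P, π x = FiTwo.T t g ∧ x * x = 1 ∧
    x * h.cj (ev t [0]) x = h.cj (ev t (ths ++ [0])) x := by
  obtain ⟨x, hx⟩ := h.surj (FiTwo.T t g)
  set A := x with hA
  set B := h.cj (ev t [0]) x with hB
  set C := h.cj (ev t (ths ++ [0])) x with hC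
  have hz : π (C⁻¹ * (A * B)) = 1 := by
    rw [map_mul, map_inv, map_mul, hB, hC, map_cj_ev h hc hx, map_cj_ev h hc hx, ← hc.add0, hc.u_nil, hx]
    group
  set z := C⁻¹ * (A * B) with hzdef
  have hzi : π z⁻¹ = 1 := by rw [map_inv, hz, inv_one]
  have hx1 : π (x * z⁻¹) = FiTwo.T t g := by rw [map_mul, hx, hzi, mul_one]
  have hAB : A * B = C * z := by rw [hzdef]; group
  have e1 : (x * z⁻¹) * h.cj (ev t [0]) (x * z⁻¹) = h.cj (ev t (ths ++ [0])) (x * z⁻¹) := by
    rw [h.cj_mul_ker _ _ hzi, h.cj_mul_ker _ _ hzi]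
    change A * z⁻¹ * (B * z⁻¹) = C * z⁻¹
    have h1 := h.cen _ hzi B
    calc A * z⁻¹ * (B * z⁻¹) = A * (z⁻¹ * B) * z⁻¹ := by group
      _ = A * (B * z⁻¹) * z⁻¹ := by rw [h1]
      _ = (A * B) * z⁻¹ * z⁻¹ := by group
      _ = C * z⁻¹ := by rw [hAB]; group
  refine ⟨x * z⁻¹, hx1, ?_, e1⟩
  generalize x * z⁻¹ = y at hx1 e1
  -- the pair is swapped by `t 0`
  have e2 : h.cj (ev t [0]) y * y = h.cj (ev t (ths ++ [0])) y := by
    have h1 := congrArg (h.cj (ev t [0])) e1
    rw [map_mul, ← MulAut.mul_apply, ← map_mul, ← ev_append, ← MulAut.mul_apply, ← map_mul, ← ev_append] at h1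
    have h2 : ev t ([0] ++ [0]) = 1 := by
      rw [ev_append, ev_cons, ev_nil, mul_one]; exact tt hc (by norm_num)
    rw [h2, map_one, MulAut.one_apply] at h1
    have h3 := Y_same h hc hx1 check_swap
    exact h1.trans h3
  have hq : π (y * y) = 1 := by rw [map_mul, hx1]; exact hc.TT
  have hq2 : ∀ w : List ℕ, h.cj (ev t w) y * h.cj (ev t w) y = y * y := by
    intro w
    rw [← map_mul, h.cj_ker _ hq]
  have h3 : (y * h.cj (ev t [0]) y) * (h.cj (ev t [0]) y * y) = (y * y) := by
    rw [e1, e2]; exact hq2 _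
  have h4 : (y * h.cj (ev t [0]) y) * (h.cj (ev t [0]) y * y) = (y * y) * (y * y) := by
    have h5 := h.cen _ hq y
    calc (y * h.cj (ev t [0]) y) * (h.cj (ev t [0]) y * y)
        = y * (h.cj (ev t [0]) y * h.cj (ev t [0]) y) * y := by group
      _ = y * (y * y) * y := by rw [hq2]
      _ = _ := by group
  rw [h3] at h4
  exact (mul_eq_left.1 h4.symm)

/-- The situation in the extension. -/
structure Lift (h : CE π) (t : ℕ → G) (g : G) (x : P) : Prop where
  ctx : Ctx t g
  map : π x = FiTwo.T t g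
  sq : x * x = 1
  add0 : x * h.cj (ev t [0]) x = h.cj (ev t (ths ++ [0])) x

end Two

namespace Two

variable {P : Type v} [Group P] {G : Type u} [Group G] {π : P →* G} (h : CE π) {t : ℕ → G} {g : G} {x : P}

/-- the conjugates of the lift -/
noncomputable def Y (t : ℕ → G) (x : P) (w : List ℕ) : P := h.cj (ev t w) x

/-- the lifts of the generators -/
noncomputable def X (t : ℕ → G) (x : P) (i : ℕ) : P := Y h t x (W.getD i [])

variable (hl : Lift h t g x)

omit hl in
theorem Y_append (w w' : List ℕ) : Y h t x (w ++ w') = h.cj (ev t w) (Y h t x w') := by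
  unfold Y
  rw [ev_append, map_mul, MulAut.mul_apply]

include hl

theorem Y_eq {w w' l : List ℕ} (hs : same w w' l = true) : Y h t x w' = Y h t x w :=
  Y_same h hl.ctx hl.map hs

theorem Y_sq (w : List ℕ) : Y h t x w * Y h t x w = 1 := by
  unfold Y
  rw [← map_mul, hl.sq, map_one]

theorem Y_add (w : List ℕ) : Y h t x w * Y h t x (w ++ [0]) = Y h t x (w ++ (ths ++ [0])) := by
  rw [Y_append h w [0], Y_append h w (ths ++ [0])]
  unfold Y
  rw [← map_mul, hl.add0]

theorem Y_comm (w : List ℕ) : Y h t x w * Y h t x (w ++ [0]) = Y h t x (w ++ [0]) * Y h t x w := by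
  have h1 := Y_sq h hl (w ++ (ths ++ [0]))
  rw [← Y_add h hl] at h1
  have h2 := eq_inv_of_mul_eq_one_left h1
  rw [mul_inv_rev, inv_eq_of_mul_eq_one_left (Y_sq h hl (w ++ [0])), inv_eq_of_mul_eq_one_left (Y_sq h hl w)] at h2
  exact h2

theorem Y_comm_base : Y h t x [] * Y h t x (W.getD 3 []) = Y h t x (W.getD 3 []) * Y h t x [] := by
  have c0 := Y_eq h hl FiTwo.check0
  have c1 := Y_eq h hl FiTwo.check1
  have c2 := Y_eq h hl FiTwo.check2
  have b1 : Y h t x [3, 2] = Y h t x [] := by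
    refine Y_eq h hl (l := [3, 2]) ?_
    decide +kernel
  have b2 : Y h t x [2] = Y h t x [] := by
    refine Y_eq h hl (l := [2]) ?_
    decide +kernel
  have d1 := Y_comm h hl [3, 2]
  rw [b1, ← c1] at d1
  have d2 := Y_comm h hl [2]
  rw [b2, ← c2] at d2
  rw [c0, ← Y_add h hl, ← mul_assoc, d1, mul_assoc, d2, mul_assoc]

theorem Y_comm_orth (w : List ℕ) :
    Y h t x w * Y h t x (w ++ W.getD 3 []) = Y h t x (w ++ W.getD 3 []) * Y h t x w := by
  have h1 := Y_comm_base h hl
  have h2 : Y h t x w = h.cj (ev t w) (Y h t x []) := by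
    have := Y_append h (t := t) (x := x) w []
    rwa [List.append_nil] at this
  rw [Y_append h w (W.getD 3 []), h2, ← map_mul, h1, map_mul]

theorem X_comm {i j : ℕ} (hi : i < 7) (hj : j < 7) : X h t x i * X h t x j = X h t x j * X h t x i := by
  have key : ∀ i < 7, ∀ j < 7, i < j → X h t x i * X h t x j = X h t x j * X h t x i := by
    intro i hi j hj hij
    have hcov : (∃ e ∈ DA, e.1 = i ∧ e.2.1 = j) ∨ (∃ e ∈ DO, e.1 = i ∧ e.2.1 = j) := by
      have : ∀ i < 7, ∀ j < 7, i < j → (DA.any fun e => Nat.beq e.1 i && Nat.beq e.2.1 j) = true ∨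
        (DO.any fun e => Nat.beq e.1 i && Nat.beq e.2.1 j) = true := by decide +kernel
      rcases this i hi j hj hij with h1 | h1
      · left
        rw [List.any_eq_true] at h1
        obtain ⟨e, he, h1⟩ := h1
        rw [Bool.and_eq_true] at h1
        exact ⟨e, he, Nat.eq_of_beq_eq_true h1.1, Nat.eq_of_beq_eq_true h1.2⟩
      · right
        rw [List.any_eq_true] at h1
        obtain ⟨e, he, h1⟩ := h1
        rw [Bool.and_eq_true] at h1
        exact ⟨e, he, Nat.eq_of_beq_eq_true h1.1, Nat.eq_of_beq_eq_true h1.2⟩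
    rcases hcov with ⟨e, he, rfl, rfl⟩ | ⟨e, he, rfl, rfl⟩
    · have h1 := List.all_eq_true.1 FiTwo.checkDA e he
      rw [Bool.and_eq_true, Bool.and_eq_true] at h1
      unfold X
      rw [Y_eq h hl h1.1, Y_eq h hl h1.2.1]
      exact Y_comm h hl _
    · have h1 := List.all_eq_true.1 FiTwo.checkDO e he
      rw [Bool.and_eq_true] at h1
      unfold X
      rw [Y_eq h hl h1.1, Y_eq h hl h1.2]
      exact Y_comm_orth h hl _
  rcases lt_trichotomy i j with hij | rfl | hij
  · exact key i hi j hj hij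
  · rfl
  · exact (key j hj i hi hij).symm

theorem X_sq (i : ℕ) : X h t x i * X h t x i = 1 := Y_sq h hl _

omit hl in
theorem Y_cons (a : ℕ) (w : List ℕ) : Y h t x (a :: w) = h.cj (t a) (Y h t x w) := by
  have := Y_append h (t := t) (x := x) [a] w
  rwa [ev_cons, ev_nil, mul_one] at this

/-- the action -/
theorem X_conj {i a : ℕ} (hi : i < 7) (ha : a < 7) :
    h.cj (t a) (X h t x i) = if adj i a then X h t x i * X h t x a else X h t x i := by
  have hcov : (adj i a = true ∧ ∃ e ∈ DA, e.1 = i ∧ e.2.1 = a) ∨ (adj i a = false ∧ ∃ e ∈ DC, e.1 = a ∧ e.2.1 = i) := by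
    have : ∀ i < 7, ∀ a < 7, (adj i a = true ∧ (DA.any fun e => Nat.beq e.1 i && Nat.beq e.2.1 a) = true) ∨
      (adj i a = false ∧ (DC.any fun e => Nat.beq e.1 a && Nat.beq e.2.1 i) = true) := by decide +kernel
    rcases this i hi a ha with ⟨h0, h1⟩ | ⟨h0, h1⟩
    · left
      rw [List.any_eq_true] at h1
      obtain ⟨e, he, h1⟩ := h1
      rw [Bool.and_eq_true] at h1
      exact ⟨h0, e, he, Nat.eq_of_beq_eq_true h1.1, Nat.eq_of_beq_eq_true h1.2⟩
    · right
      rw [List.any_eq_true] at h1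
      obtain ⟨e, he, h1⟩ := h1
      rw [Bool.and_eq_true] at h1
      exact ⟨h0, e, he, Nat.eq_of_beq_eq_true h1.1, Nat.eq_of_beq_eq_true h1.2⟩
  rcases hcov with ⟨h0, e, he, rfl, rfl⟩ | ⟨h0, e, he, rfl, rfl⟩
  · rw [if_pos h0]
    have h1 := List.all_eq_true.1 FiTwo.checkDA e he
    rw [Bool.and_eq_true, Bool.and_eq_true] at h1
    unfold X
    rw [← Y_cons, Y_eq h hl h1.2.2, Y_eq h hl h1.1, Y_eq h hl h1.2.1]
    exact (Y_add h hl _).symm
  · rw [if_neg (by rw [h0]; decide)]
    have h1 := List.all_eq_true.1 FiTwo.checkDC e he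
    unfold X
    rw [← Y_cons, Y_eq h hl h1]

end Two

/-! ### Signs -/

section Sign

variable {k : Type*} [Field k]

/-- the sign -/
def sg (k : Type*) [Field k] (c : ZMod 2) : k := if c = 0 then 1 else -1

theorem sg_add (c d : ZMod 2) : sg k (c + d) = sg k c * sg k d := by
  have : ∀ c : ZMod 2, c = 0 ∨ c = 1 := by decide
  unfold sg
  rcases this c with rfl | rfl <;> rcases this d with rfl | rfl
  · simp
  · simp only [_root_.zero_add, _root_.one_ne_zero, ↓ _root_.reduceIte, _root_.mul_neg, _root_.mul_one]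
  · simp only [_root_.add_zero, _root_.one_ne_zero, ↓ _root_.reduceIte, _root_.mul_one]
  · rw [if_pos (by decide), if_neg (by decide)]; ring

theorem sg_inj (h2 : ((2 : ℕ) : k) ≠ 0) {c d : ZMod 2} (h : sg k c = sg k d) : c = d := by
  have h3 : (1 : k) ≠ -1 := by
    intro h4
    apply h2
    push_cast
    linear_combination h4
  have : ∀ c : ZMod 2, c = 0 ∨ c = 1 := by decide
  unfold sg at h
  rcases this c with rfl | rfl <;> rcases this d with rfl | rfl
  · rfl
  · rw [if_pos rfl, if_neg (by decide)] at h; exact absurd h h3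
  · rw [if_pos rfl, if_neg (by decide)] at h; exact absurd h.symm h3
  · rfl

theorem exists_sg {s : k} (hs : s * s = 1) : ∃ c : ZMod 2, s = sg k c := by
  rcases mul_self_eq_one_iff.1 hs with rfl | rfl
  · exact ⟨0, by simp [sg]⟩
  · exact ⟨1, by rw [sg, if_neg (by decide)]⟩

end Sign

open Cfsg.Agent.H203.LS

/-- **The bound.** -/
theorem ls_two {T : Type u} [Group T] [IsSimpleGroup T] {t : ℕ → T} {g : T} (hc : Ctx t g) (hT : FiTwo.T t g ≠ 1) :
    LS.{u, v, w} 2 28 T := by
  apply LS.of_core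
  intro P _ π k _ _ V _ _ _ ρ hcore
  classical
  have h : CE π := ⟨hcore.surj, fun c hc g => hcore.comm_ker hc g⟩
  obtain ⟨x, hx, hx2, hx3⟩ := Two.exists_lift h hc
  have hl : Two.Lift h t g x := ⟨hc, hx, hx2, hx3⟩
  have hcomm : ∀ i j : Fin 7, ρ (Two.X h t x i) * ρ (Two.X h t x j) = ρ (Two.X h t x j) * ρ (Two.X h t x i) := by
    intro i j
    rw [← map_mul, Two.X_comm h hl i.2 j.2, map_mul]
  have hXne : π (Two.X h t x 2) ≠ 1 := by
    unfold Two.X Two.Y
    rw [h.map_cj, hx]
    intro h1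
    apply hT
    have h2 := mul_inv_eq_one.1 h1
    exact mul_eq_left.1 h2
  have hne : ρ (Two.X h t x ((2 : Fin 7) : ℕ)) ≠ 1 := by
    intro h1
    refine hcore.not_scalar hXne (s := 1) ?_
    intro v
    have h2 : ρ (Two.X h t x 2) = 1 := h1
    rw [h2, one_smul]; rfl
  obtain ⟨v, χ, hv, hχ, hχ2⟩ := exists_weight (fun j : Fin 7 => ρ (Two.X h t x j)) hcomm (j0 := 2) (N := 2)
    hcore.rk (by rw [← map_pow, pow_two, Two.X_sq h hl, map_one]) hne
  have hsq : ∀ j, χ j * χ j = 1 := by
    intro j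
    have h1 : ρ (Two.X h t x j * Two.X h t x j) v = (χ j * χ j) • v := by
      rw [map_mul, Module.End.mul_apply]
      have h0 : ρ (Two.X h t x j) v = χ j • v := hχ j
      rw [h0, map_smul, h0, smul_smul]
    rw [Two.X_sq h hl, map_one, Module.End.one_apply] at h1
    have h2 : (χ j * χ j - 1) • v = 0 := by rw [sub_smul, one_smul, ← h1, sub_self]
    exact sub_eq_zero.1 ((smul_eq_zero.1 h2).resolve_right hv)
  have hc1 : ∀ j : Fin 7, ∃ c : ZMod 2, χ j = sg k c := fun j => exists_sg (hsq j)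
  choose cc hcc using hc1
  let c : ℕ → ZMod 2 := fun i => if hi : i < 7 then cc ⟨i, hi⟩ else 0
  have hcv : ∀ i < 7, ρ (Two.X h t x i) v = sg k (c i) • v := by
    intro i hi
    have h1 := hχ ⟨i, hi⟩
    rw [hcc] at h1
    have h2 : c i = cc ⟨i, hi⟩ := dif_pos hi
    rw [h2]; exact h1
  -- the conjugates
  have hfun : ∀ w : List ℕ, (∀ a ∈ w, a < 7) → ∀ (p : T) (c : ℕ → ZMod 2),
      (∀ i < 7, ρ (h.cj p (Two.X h t x i)) v = sg k (c i) • v) → ∀ i < 7,
      ρ (h.cj (p * ev t w) (Two.X h t x i)) v =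
        sg k ((w.foldl (fun c a => fun i => if adj i a then c i + c a else c i) c) i) • v := by
    intro w
    induction w with
    | nil =>
      intro _ p c hc i hi
      rw [ev_nil, mul_one]
      exact hc i hi
    | cons a w ih =>
      intro hw p c hc i hi
      have ha := hw a List.mem_cons_self
      have h1 := ih (fun b hb => hw b (List.mem_cons_of_mem _ hb)) (p * t a)
        (fun i => if adj i a then c i + c a else c i) (by
          intro i hi
          rw [map_mul, MulAut.mul_apply, Two.X_conj h hl hi ha]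
          by_cases hadj : adj i a = true
          · rw [if_pos hadj, if_pos hadj, map_mul, map_mul, Module.End.mul_apply, hc a ha, map_smul, hc i hi,
              smul_smul, sg_add, mul_comm]
          · rw [if_neg hadj, if_neg hadj]
            exact hc i hi) i hi
      rw [mul_assoc, ← ev_cons] at h1
      rw [List.foldl_cons]
      exact h1
  obtain ⟨m, hm⟩ := FiTwo.exists_rep c
  have hm2 : m.testBit 2 = true := by
    rw [hm.2 2 (by norm_num)]
    rcases FiTwo.z2 (c 2) with h0 | h0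
    · exfalso
      apply hχ2
      have h1 : c 2 = cc 2 := dif_pos (by norm_num)
      rw [hcc, ← h1, h0]
      simp [sg]
    · exact h0
  have hcnt : Nat.ble 28 (cnt (SW.map fun w => w.foldl step m)) = true := by
    have h1 := List.all_eq_true.1 FiTwo.checkS m (List.mem_range.2 hm.1)
    rw [hm2, Bool.not_true, Bool.false_or] at h1
    exact h1
  have h3 : 28 ≤ (SW.map fun w => w.foldl FiTwo.step m).toFinset.card :=
    le_trans (Nat.le_of_ble_eq_true hcnt) (cnt_le _)
  obtain ⟨I, hI1, hI2⟩ := Finset.exists_subset_card_eq h3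
  have h4 : ∀ y ∈ I, ∃ w ∈ SW, w.foldl step m = y := by
    intro y hy
    have := List.mem_toFinset.1 (hI1 hy)
    obtain ⟨w, hw, hwy⟩ := List.mem_map.1 this
    exact ⟨w, hw, hwy⟩
  choose! τ hτ1 hτ2 using h4
  have hSW : ∀ w ∈ SW, ∀ a ∈ w, a < 7 := by
    intro w hw
    have h1 := List.all_eq_true.1 FiTwo.checkSW w hw
    rw [Bool.and_eq_true] at h1
    exact mem_lt h1.1
  let fc : List ℕ → ℕ → ZMod 2 := fun w => w.foldl (fun c a => fun i => if adj i a then c i + c a else c i) c
  have hw1 : ∀ w ∈ SW, ∀ i < 7, ρ (h.cj (ev t w) (Two.X h t x i)) v = sg k (fc w i) • v := by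
    intro w hw i hi
    have := hfun w (hSW w hw) 1 c (by
      intro i hi
      rw [map_one, MulAut.one_apply]
      exact hcv i hi) i hi
    rwa [one_mul] at this
  -- the weight vectors
  choose σ hσ using h.surj
  have hfin := card_le_of_weights (k := k) (V := V) (ι := I) (J := Fin 7) (fun j => ρ (Two.X h t x j))
    (fun y => ρ (σ (ev t (τ y)))⁻¹ v) (fun y j => sg k (fc (τ y) j)) (fun y => hcore.ne_zero _ hv) (by
      intro y j
      have h5 := hw1 (τ y) (hτ1 y y.2) j j.2
      have h6 : h.cj (ev t (τ y)) (Two.X h t x j) = σ (ev t (τ y)) * Two.X h t x j * (σ (ev t (τ y)))⁻¹ := by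
        rw [← h.cj_eq, hσ]
      rw [h6] at h5
      rw [← Module.End.mul_apply, ← map_mul]
      have h7 : Two.X h t x j * (σ (ev t (τ y)))⁻¹ =
          (σ (ev t (τ y)))⁻¹ * (σ (ev t (τ y)) * Two.X h t x j * (σ (ev t (τ y)))⁻¹) := by group
      rw [h7, map_mul, Module.End.mul_apply, h5, map_smul]) (by
      intro y z hyz
      by_contra hne
      have hne' : (y : ℕ) ≠ z := fun h0 => hne (Subtype.ext h0)
      apply hne'
      rw [← hτ2 y y.2, ← hτ2 z z.2]
      refine Rep.ext (Rep.foldl (τ y) (hSW _ (hτ1 y y.2)) hm) (Rep.foldl (τ z) (hSW _ (hτ1 z z.2)) hm) ?_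
      intro i hi
      exact sg_inj hcore.rk (congrFun hyz ⟨i, hi⟩))
  have h8 : Nat.card I = 28 := by rw [Nat.card_eq_fintype_card, Fintype.card_coe, hI2]
  rw [h8] at hfin
  exact hfin

end Cfsg.Agent.H806.Ls
end

-- part: H806/LsFiTwo
section
/-!
# `LS 2 28` for `Fi₂₂`, `Fi₂₃`, `Fi₂₄'`, `B`, `M` (helper806)
-/

set_option autoImplicit false

universe u v w

namespace Cfsg.Agent.H806.Ls

open Cfsg Cfsg.Spor Cfsg.Agent.H921.Spor Cfsg.Agent.H921.Spor.Cox Cfsg.Agent.H921.Spor.Fi
open Cfsg.Agent.ChevalleyStructure.WeylData Cfsg.Agent.H920 Cfsg.Agent.H203.LS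
open Cfsg.Agent.H920.FiTwo (Ctx ths gn_sq gn_comm gn_braid comm_ev)

section Twist

variable {G : Type u} [Group G] {t : ℕ → G} {g z : G}

theorem ev_twist (w : List ℕ) (hw : ∀ a ∈ w, z * t a = t a * z) :
    ev (fun a => t a * z) w = ev t w * z ^ w.length := by
  induction w with
  | nil => simp
  | cons a w ih =>
    rw [ev_cons, ev_cons, ih fun b hb => hw b (List.mem_cons_of_mem _ hb), List.length_cons, pow_succ']
    have h1 : z * ev t w = ev t w * z := comm_ev fun b hb => hw b (List.mem_cons_of_mem _ hb)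
    calc t a * z * (ev t w * z ^ w.length) = t a * (z * ev t w) * z ^ w.length := by group
      _ = _ := by rw [h1]; group

theorem ev_congr {t t' : ℕ → G} {w : List ℕ} (h : ∀ a ∈ w, t a = t' a) : ev t w = ev t' w := by
  induction w with
  | nil => rfl
  | cons a w ih =>
    rw [ev_cons, ev_cons, h a List.mem_cons_self, ih fun b hb => h b (List.mem_cons_of_mem _ hb)]

theorem ths_lt : ∀ a ∈ ths, a < 7 := by decide

theorem ctx_twist (hc : Ctx t g) (hz : z * z = 1) (hzt : ∀ a, a < 7 → z * t a = t a * z) (hzg : z * g = g * z) :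
    Ctx (fun a => t a * z) (g * z) ∧ FiTwo.T (fun a => t a * z) (g * z) = FiTwo.T t g := by
  have e0 : ∀ a, a < 7 → ∀ x, t a * z * (x * z) = t a * (z * x * z) := fun a _ x => by group
  have hzz : ∀ x, z * x = x * z → z * x * z = x := fun x hx => by rw [hx, mul_assoc, hz, mul_one]
  have es : ev (fun a => t a * z) ths = ev t ths * z := by
    rw [ev_twist _ fun a ha => hzt a (ths_lt a ha)]
    have h1 : ths.length = 2 * 16 + 1 := by decide
    rw [h1, pow_succ, pow_mul, pow_two, hz, one_pow, one_mul]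
  have hzs : z * ev t ths = ev t ths * z := comm_ev fun a ha => hzt a (ths_lt a ha)
  refine ⟨⟨?_, ?_, ?_, ?_, ?_⟩, ?_⟩
  · intro a ha b hb
    rw [e0 a ha, hzz _ (hzt b hb)]
    exact hc.pre a ha b hb
  · calc g * z * (g * z) = g * (z * g * z) := by group
      _ = 1 := by rw [hzz _ hzg, hc.gg]
  · intro a h1 h2
    calc g * z * (t a * z) = g * (z * t a * z) := by group
      _ = t a * (z * g * z) := by rw [hzz _ (hzt a h2), hzz _ hzg, hc.gt a h1 h2]
      _ = _ := by group
  · calc g * z * (t 0 * z) * (g * z) = g * (z * t 0 * z) * g * z := by group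
      _ = t 0 * g * t 0 * z := by rw [hzz _ (hzt 0 (by norm_num)), hc.g0]
      _ = t 0 * (z * g * z) * t 0 * z := by rw [hzz _ hzg]
      _ = _ := by group
  · rw [es]
    calc g * z * (ev t ths * z) = g * (z * ev t ths * z) := by group
      _ = ev t ths * (z * g * z) := by rw [hzz _ hzs, hzz _ hzg, hc.gs]
      _ = _ := by group
  · unfold FiTwo.T
    rw [es]
    calc g * z * (ev t ths * z) = g * (z * ev t ths * z) := by group
      _ = _ := by rw [hzz _ hzs]

theorem coe_ev {K : Subgroup G} (t' : ℕ → K) (w : List ℕ) : ((ev t' w : K) : G) = ev (fun a => (t' a : G)) w := by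
  induction w with
  | nil => rfl
  | cons a w ih => rw [ev_cons, ev_cons, Subgroup.coe_mul, ih]

/-- The twisted elements in a subgroup. -/
theorem ctx_sub {K : Subgroup G} (hc : Ctx t g) (hz : z * z = 1) (hzt : ∀ a, a < 7 → z * t a = t a * z)
    (hzg : z * g = g * z) (hK : ∀ a, a < 7 → t a * z ∈ K) (hgK : g * z ∈ K) :
    ∃ (t' : ℕ → K) (g' : K), Ctx t' g' ∧ ((FiTwo.T t' g' : K) : G) = FiTwo.T t g := by
  classical
  obtain ⟨h1, h2⟩ := ctx_twist hc hz hzt hzg
  let t' : ℕ → K := fun a => if ha : t a * z ∈ K then ⟨_, ha⟩ else 1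
  have ht : ∀ a, a < 7 → (t' a : G) = t a * z := by
    intro a ha
    have : t' a = ⟨_, hK a ha⟩ := dif_pos (hK a ha)
    rw [this]
  have hs : ((ev t' ths : K) : G) = ev (fun a => t a * z) ths := by
    rw [coe_ev]; exact ev_congr fun a ha => ht a (ths_lt a ha)
  refine ⟨t', ⟨_, hgK⟩, ⟨?_, ?_, ?_, ?_, ?_⟩, ?_⟩
  · intro a ha b hb
    apply Subtype.ext
    rw [Subgroup.coe_pow, Subgroup.coe_mul, ht a ha, ht b hb]
    exact h1.pre a ha b hb
  · exact Subtype.ext h1.gg
  · intro a ha hb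
    apply Subtype.ext
    rw [Subgroup.coe_mul, Subgroup.coe_mul, ht a hb]
    exact h1.gt a ha hb
  · apply Subtype.ext
    rw [Subgroup.coe_mul, Subgroup.coe_mul, Subgroup.coe_mul, Subgroup.coe_mul, ht 0 (by norm_num)]
    exact h1.g0
  · apply Subtype.ext
    rw [Subgroup.coe_mul, Subgroup.coe_mul, hs]
    exact h1.gs
  · rw [← h2]
    unfold FiTwo.T
    rw [Subgroup.coe_mul, hs]

/-- Criterion for `T ≠ 1`: a node attached to `g` only. -/
theorem T_ne_one {j : G} (hss : ev t ths * ev t ths = 1) (hj : ∀ a, a < 7 → j * t a = t a * j)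
    (hb : g * j * g = j * g * j) (hgg : g * g = 1) (hjj : j * j = 1) (hne : g * j ≠ 1) : FiTwo.T t g ≠ 1 := by
  intro hT
  have h1 : g = ev t ths := by
    unfold FiTwo.T at hT
    rw [← inv_eq_of_mul_eq_one_left hss]
    exact eq_inv_of_mul_eq_one_left hT
  have h2 : j * g = g * j := by
    rw [h1]
    exact comm_ev fun a ha => hj a (ths_lt a ha)
  apply hne
  have e1 : g * j * g = j := by rw [← h2, mul_assoc, hgg, mul_one]
  have e2 : j * g * j = g := by rw [h2, mul_assoc, hjj, mul_one]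
  have e3 : j = g := e1.symm.trans (hb.trans e2)
  rw [e3]
  exact hgg

end Twist

section General

variable {α : Type} [DecidableEq α] {edges : List (α × ℕ × α)} {extra : List (FreeGroup α)}

theorem comm_prod {G : Type u} [Group G] {y a b c : G} (ha : y * a = a * y) (hb : y * b = b * y) (hc : c = a * b) :
    y * c = c * y := by
  rw [hc, ← mul_assoc, ha, mul_assoc, hb, mul_assoc]

theorem check5' : eqW certE7 ths (Two.w0 ++ rp [6, 5, 4, 3, 2, 1] 5) = true := FiTwo.check5

/-- The context from a diagram. -/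
theorem ctx_of {f : ℕ → α} {y : α} (hn : ∀ x : α, x ∈ coxNodes edges) (hs : Fi.sub certE7 edges f = true)
    (hy : ∀ a < 7, 1 ≤ a → coxLabel edges y (f a) = 2) (hy0 : coxLabel edges y (f 0) = 3)
    (hc : gn edges extra y * ev (fun a => gn edges extra (f a)) Two.w0 =
      ev (fun a => gn edges extra (f a)) Two.w0 * gn edges extra y) :
    Ctx (fun a => gn edges extra (f a)) (gn edges extra y) where
  pre := Fi.pre certE7 f hs
  gg := gn_sq (hn _)
  gt := fun a h1 h2 => gn_comm (hn _) (hn _) (hy a h2 h1)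
  g0 := gn_braid (hn _) (hn _) hy0
  gs := by
    have h2 : gn edges extra y * ev (fun a => gn edges extra (f a)) (rp [6, 5, 4, 3, 2, 1] 5) =
        ev (fun a => gn edges extra (f a)) (rp [6, 5, 4, 3, 2, 1] 5) * gn edges extra y := by
      apply comm_ev
      intro a ha
      have h1 : ∀ a ∈ rp [6, 5, 4, 3, 2, 1] 5, a < 7 ∧ 1 ≤ a := by decide
      exact gn_comm (hn _) (hn _) (hy a (h1 a ha).1 (h1 a ha).2)
    have h3 := (Fi.pre certE7 f hs (extra := extra)).eq check5'
    rw [ev_append] at h3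
    exact comm_prod hc h2 h3

/-- nodes connected with those of `V` -/
def near (edges : List (α × ℕ × α)) : ℕ → List α → List α
  | 0, V => V
  | n + 1, V => near edges n (V ++ (coxNodes edges).filter fun c => V.any fun q => Nat.beq (coxLabel edges q c) 3)

theorem near_mem {x₀ : α} (n : ℕ) (V : List α)
    (hV : ∀ x ∈ V, x ∈ coxNodes edges ∧ gn edges extra x₀ * gn edges extra x ∈ commutator (CoxPresented α edges extra)) :
    ∀ x ∈ near edges n V, gn edges extra x₀ * gn edges extra x ∈ commutator (CoxPresented α edges extra) := by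
  induction n generalizing V with
  | zero => exact fun x hx => (hV x hx).2
  | succ n ih =>
    apply ih
    intro x hx
    rcases List.mem_append.1 hx with hx | hx
    · exact hV x hx
    · rw [List.mem_filter, List.any_eq_true] at hx
      obtain ⟨hxn, q, hq, hq3⟩ := hx
      refine ⟨hxn, ?_⟩
      obtain ⟨h1, h2⟩ := hV q hq
      have h3 := adj_mem (extra := extra) h1 hxn (Nat.eq_of_beq_eq_true hq3)
      have h4 := Subgroup.mul_mem _ h2 h3
      rwa [mul_assoc, ← mul_assoc (gn edges extra q), gn_sq h1, one_mul] at h4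

/-- All products of two nodes of a connected diagram lie in the commutator subgroup. -/
theorem all_mem {x₀ : α} (n : ℕ) (h0 : x₀ ∈ coxNodes edges) (hall : ∀ x : α, x ∈ near edges n [x₀])
    (hn : ∀ x : α, x ∈ coxNodes edges) (x y : α) :
    gn edges extra x * gn edges extra y ∈ commutator (CoxPresented α edges extra) := by
  have h1 : ∀ x, gn edges extra x₀ * gn edges extra x ∈ commutator (CoxPresented α edges extra) := by
    intro x
    refine near_mem n [x₀] ?_ x (hall x)
    intro y hy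
    rw [List.mem_singleton] at hy
    subst hy
    refine ⟨h0, ?_⟩
    rw [gn_sq h0]; exact Subgroup.one_mem _
  have h2 := Subgroup.mul_mem _ (Subgroup.inv_mem _ (h1 x)) (h1 y)
  rw [mul_inv_rev, mul_assoc, inv_mul_cancel_left, inv_eq_of_mul_eq_one_left (gn_sq (hn x))] at h2
  exact h2

end General

/-! ### `Fi₂₃` -/

/-- the nodes of the diagram of type `E₇` -/
def f23 (a : ℕ) : Fi23.Gen := [Fi23.Gen.f, .h, .e, .d, .c, .b, .a].getD a .f

theorem nodes23 (x : Fi23.Gen) : x ∈ coxNodes Fi23.edges := by cases x <;> decide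

theorem w0_23 : ev (fun a => gn Fi23.edges Fi23.extra (f23 a)) Two.w0 = 1 := by
  unfold Two.w0
  rw [ev_rp]
  have h2 : ev (fun a => gn Fi23.edges Fi23.extra (f23 a)) [6, 5, 4, 3, 2, 0, 1] =
      gn Fi23.edges Fi23.extra .a * gn Fi23.edges Fi23.extra .b * gn Fi23.edges Fi23.extra .c *
        gn Fi23.edges Fi23.extra .d * gn Fi23.edges Fi23.extra .e * gn Fi23.edges Fi23.extra .f *
        gn Fi23.edges Fi23.extra .h := by
    simp only [ev_cons, ev_nil, mul_one, mul_assoc]
    rfl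
  rw [h2]
  exact PresentedGroup.one_of_mem (rels := coxRelators Fi23.edges ∪ {r | r ∈ Fi23.extra})
    (x := (Fi23.a * Fi23.b * Fi23.c * Fi23.d * Fi23.e * Fi23.f * Fi23.h) ^ 9) (Or.inr (by
      change _ ∈ Fi23.extra
      unfold Fi23.extra
      simp))

theorem ctx23 : Ctx (fun a => gn Fi23.edges Fi23.extra (f23 a)) (gn Fi23.edges Fi23.extra .g) :=
  ctx_of nodes23 (by decide +kernel) (by decide) (by decide) (by rw [w0_23, mul_one, one_mul])

theorem T_ne23 (hnc : ∃ g h : Fi23, g * h ≠ h * g) :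
    FiTwo.T (fun a => gn Fi23.edges Fi23.extra (f23 a)) (gn Fi23.edges Fi23.extra .g) ≠ 1 := by
  refine T_ne_one (j := gn Fi23.edges Fi23.extra .j) ctx23.ss ?_ (gn_braid (nodes23 _) (nodes23 _) (by decide))
    (gn_sq (nodes23 _)) (gn_sq (nodes23 _))
    (ne_of_nc hnc .g .j 11 (by decide) (by decide) (by intro x; cases x <;> decide +kernel))
  intro a ha
  have : ∀ a < 7, coxLabel Fi23.edges .j (f23 a) = 2 := by decide
  exact gn_comm (nodes23 _) (nodes23 _) (this a ha)

theorem fi23_ls_two [IsSimpleGroup Fi23] (hnc : ∃ g h : Fi23, g * h ≠ h * g) : LS.{0, v, w} 2 28 Fi23 :=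
  ls_two ctx23 (T_ne23 hnc)

/-! ### `Fi₂₄'` -/

theorem fi24_ls_two [IsSimpleGroup Fi24'] (hnc : ∃ g h : Fi24', g * h ≠ h * g) : LS.{0, v, w} 2 28 Fi24' := by
  have hmem := all_mem (edges := Fi24.edges) (extra := Fi24.extra) (x₀ := .l) 12 (by decide)
    (by intro x; cases x <;> decide +kernel) FiTwo.nodes
  obtain ⟨t', g', h1, h2⟩ := ctx_sub (K := commutator Fi24) (z := gn Fi24.edges Fi24.extra .l) FiTwo.ctx
    (gn_sq (FiTwo.nodes _)) (by
      intro a ha
      have : ∀ a < 7, coxLabel Fi24.edges .l (FiTwo.f7 a) = 2 := by decide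
      exact gn_comm (FiTwo.nodes _) (FiTwo.nodes _) (this a ha))
    (gn_comm (FiTwo.nodes _) (FiTwo.nodes _) (by decide)) (fun a ha => hmem _ _) (hmem _ _)
  refine ls_two h1 ?_
  intro h3
  rw [h3] at h2
  refine T_ne_one (j := gn Fi24.edges Fi24.extra .j) FiTwo.ctx.ss ?_
    (gn_braid (FiTwo.nodes _) (FiTwo.nodes _) (by decide)) (gn_sq (FiTwo.nodes _)) (gn_sq (FiTwo.nodes _))
    (ne_of_nc (Fi24_nc hnc) .g .j 11 (by decide) (by decide) (by intro x; cases x <;> decide +kernel)) h2.symm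
  intro a ha
  have : ∀ a < 7, coxLabel Fi24.edges .j (FiTwo.f7 a) = 2 := by decide
  exact gn_comm (FiTwo.nodes _) (FiTwo.nodes _) (this a ha)

/-! ### `B` -/

/-- the nodes of the diagram of type `E₇` -/
def fB (a : ℕ) : BabyMonster.Gen :=
  [BabyMonster.Gen.t3, .t9, .t4, .t5, .t6, .t7, .t8].getD a .t3

theorem nodesB (x : BabyMonster.Gen) : x ∈ coxNodes BabyMonster.edges := by cases x <;> decide

abbrev gB (x : BabyMonster.Gen) : BabyMonster := gn BabyMonster.edges BabyMonster.extra x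

theorem preB : Pre certE7 (fun a => gB (fB a)) := Fi.pre certE7 fB (by decide +kernel)

theorem w0_B : ev (fun a => gB (fB a)) Two.w0 = 1 := by
  have h1 : eqW certE7 Two.w0 (rp [3, 2, 0, 4, 5, 6, 1] 9) = true := by rw [eqW_eq]; decide +kernel
  rw [preB.eq h1, ev_rp]
  have h2 : ev (fun a => gB (fB a)) [3, 2, 0, 4, 5, 6, 1] =
      gB .t5 * gB .t4 * gB .t3 * gB .t6 * gB .t7 * gB .t8 * gB .t9 := by
    simp only [ev_cons, ev_nil, mul_one, mul_assoc]
    rfl
  rw [h2]
  exact PresentedGroup.one_of_mem (rels := coxRelators BabyMonster.edges ∪ {r | r ∈ BabyMonster.extra})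
    (x := (BabyMonster.t5 * BabyMonster.t4 * BabyMonster.t3 * BabyMonster.t6 * BabyMonster.t7 * BabyMonster.t8 *
      BabyMonster.t9) ^ 9) (Or.inr (by
      change _ ∈ BabyMonster.extra
      unfold BabyMonster.extra
      simp))

theorem ctxB : Ctx (fun a => gB (fB a)) (gB .t2) :=
  ctx_of nodesB (by decide +kernel) (by decide) (by decide) (by
    have := w0_B
    change gB .t2 * ev (fun a => gB (fB a)) Two.w0 = ev (fun a => gB (fB a)) Two.w0 * gB .t2
    rw [this, mul_one, one_mul])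

theorem b_ls_two [IsSimpleGroup BabyMonster] (hnc : ∃ g h : BabyMonster, g * h ≠ h * g) :
    LS.{0, v, w} 2 28 BabyMonster := by
  refine ls_two ctxB (T_ne_one (j := gB .t1) ctxB.ss ?_ (gn_braid (nodesB _) (nodesB _) (by decide))
    (gn_sq (nodesB _)) (gn_sq (nodesB _))
    (ne_of_nc hnc .t2 .t1 11 (by decide) (by decide) (by intro x; cases x <;> decide +kernel)))
  intro a ha
  have : ∀ a < 7, coxLabel BabyMonster.edges .t1 (fB a) = 2 := by decide
  exact gn_comm (nodesB _) (nodesB _) (this a ha)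

/-! ### `M` -/

/-- the nodes of the diagram of type `E₇` -/
def fM7 (a : ℕ) : Bimonster.Gen := [Bimonster.Gen.c1, .b3, .b1, .a, .b2, .c2, .d2].getD a .a

theorem nodesM (x : Bimonster.Gen) : x ∈ coxNodes Bimonster.edges := by cases x <;> decide

theorem preM : Pre certE7 (fun a => gM (fM7 a)) := Fi.pre certE7 fM7 (by decide +kernel)

theorem w0_M : ev (fun a => gM (fM7 a)) Two.w0 = gM .f2 := by
  have h1 : eqW certE7 Two.w0 (rp [3, 4, 2, 1, 5, 0, 6] 9) = true := by rw [eqW_eq]; decide +kernel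
  rw [preM.eq h1, ev_rp]
  have h2 : ev (fun a => gM (fM7 a)) [3, 4, 2, 1, 5, 0, 6] =
      gM .a * gM .b2 * gM .b1 * gM .b3 * gM .c2 * gM .c1 * gM .d2 := by
    simp only [ev_cons, ev_nil, mul_one, mul_assoc]
    rfl
  rw [h2]
  have h3 : PresentedGroup.mk (coxRelators Bimonster.edges ∪ {r | r ∈ Bimonster.extra})
      (Bimonster.f2 * (((Bimonster.a * Bimonster.b2 * Bimonster.b1 * Bimonster.b3 * Bimonster.c2 * Bimonster.c1 *
        Bimonster.d2) ^ 9)⁻¹)) = 1 :=
    PresentedGroup.one_of_mem (Or.inr (by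
      change _ ∈ Bimonster.extra
      unfold Bimonster.extra
      simp only [_root_.List.mem_cons, _root_.mul_right_inj, _root_.inv_inj, _root_.List.not_mem_nil, _root_.or_false, _root_.true_or, _root_.or_true]))
  rw [map_mul, map_inv, map_pow, map_mul, map_mul, map_mul, map_mul, map_mul, map_mul, mul_inv_eq_one] at h3
  exact h3.symm

theorem ctxM : Ctx (fun a => gM (fM7 a)) (gM .d1) :=
  ctx_of nodesM (by decide +kernel) (by decide) (by decide) (by
    have := w0_M
    change gM .d1 * ev (fun a => gM (fM7 a)) Two.w0 = ev (fun a => gM (fM7 a)) Two.w0 * gM .d1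
    rw [this]
    exact gn_comm (nodesM _) (nodesM _) (by decide))

theorem simple_of_equiv {G : Type u} {H : Type v} [Group G] [Group H] (e : G ≃* H) [IsSimpleGroup G] :
    IsSimpleGroup H :=
  e.symm.isSimpleGroup

theorem m_mem : ∀ x y : Bimonster.Gen, gM x * gM y ∈ commutator Bimonster :=
  all_mem (edges := Bimonster.edges) (extra := Bimonster.extra) (x₀ := .a) 6 (by decide)
    (by intro x; cases x <;> decide +kernel) nodesM

/-- elements of the Monster -/
theorem m_mem_centr {x : Bimonster.Gen} (hx : coxLabel Bimonster.edges .f3 x = 2) :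
    gM x * gM .f3 ∈ Subgroup.centralizer {gM .f3} ⊓ commutator Bimonster := by
  refine Subgroup.mem_inf.2 ⟨?_, m_mem _ _⟩
  rw [Subgroup.mem_centralizer_singleton_iff]
  have h1 : gM .f3 * gM x = gM x * gM .f3 := gn_comm (nodesM _) (nodesM _) hx
  rw [← mul_assoc, h1]

theorem m_ls_two [IsSimpleGroup Monster] (hnc : ∃ g h : Monster, g * h ≠ h * g) : LS.{0, v, w} 2 28 Monster := by
  obtain ⟨e⟩ := exists_equiv
  have := simple_of_equiv e
  refine LS.congr e.symm ?_
  obtain ⟨t', g', h1, h2⟩ := ctx_sub (K := Subgroup.centralizer {gM .f3} ⊓ commutator Bimonster) (z := gM .f3) ctxM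
    (gn_sq (nodesM _)) (by
      intro a ha
      have : ∀ a < 7, coxLabel Bimonster.edges .f3 (fM7 a) = 2 := by decide
      exact gn_comm (nodesM _) (nodesM _) (this a ha))
    (gn_comm (nodesM _) (nodesM _) (by decide)) (fun a ha => m_mem_centr (by
      have : ∀ a < 7, coxLabel Bimonster.edges .f3 (fM7 a) = 2 := by decide
      exact this a ha)) (m_mem_centr (by decide))
  refine ls_two h1 ?_
  intro h3
  rw [h3] at h2
  refine T_ne_one (j := gM .e1) ctxM.ss ?_
    (gn_braid (nodesM _) (nodesM _) (by decide)) (gn_sq (nodesM _)) (gn_sq (nodesM _))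
    (ne_of_nc (M_nc hnc) .d1 .e1 16 (by decide) (by decide) (by intro x; cases x <;> decide +kernel)) h2.symm
  intro a ha
  have : ∀ a < 7, coxLabel Bimonster.edges .e1 (fM7 a) = 2 := by decide
  exact gn_comm (nodesM _) (nodesM _) (this a ha)

/-! ### `Fi₂₂` -/

/-- the nodes of the diagram of type `E₇` -/
def f22 (a : ℕ) : Fi22.Gen := [Fi22.Gen.f, .h, .e, .d, .c, .b, .a].getD a .f

theorem nodes22 (x : Fi22.Gen) : x ∈ coxNodes Fi22.edges := by cases x <;> decide

abbrev g22 (x : Fi22.Gen) : Fi22 := gn Fi22.edges Fi22.extra x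

theorem pre22 : Pre certE7 (fun a => g22 (f22 a)) := Fi.pre certE7 f22 (by decide +kernel)

theorem w0_22 : ev (fun a => g22 (f22 a)) Two.w0 = 1 := by
  unfold Two.w0
  rw [ev_rp]
  have h2 : ev (fun a => g22 (f22 a)) [6, 5, 4, 3, 2, 0, 1] =
      g22 .a * g22 .b * g22 .c * g22 .d * g22 .e * g22 .f * g22 .h := by
    simp only [ev_cons, ev_nil, mul_one, mul_assoc]
    rfl
  rw [h2]
  exact PresentedGroup.one_of_mem (rels := coxRelators Fi22.edges ∪ {r | r ∈ Fi22.extra})
    (x := (Fi22.a * Fi22.b * Fi22.c * Fi22.d * Fi22.e * Fi22.f * Fi22.h) ^ 9) (Or.inr (by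
      change _ ∈ Fi22.extra
      unfold Fi22.extra
      simp))

theorem ctx22 : Ctx (fun a => g22 (f22 a)) (g22 .g) :=
  ctx_of nodes22 (by decide +kernel) (by decide) (by decide) (by
    have := w0_22
    change g22 .g * ev (fun a => g22 (f22 a)) Two.w0 = ev (fun a => g22 (f22 a)) Two.w0 * g22 .g
    rw [this, mul_one, one_mul])

section Abstract

variable {G : Type u} [Group G]

/-- expansion of the letter 7 -/
def exW : List ℕ → List ℕ
  | [] => []
  | a :: l => if a = 7 then ths ++ exW l else a :: exW l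

theorem comm_exW {t : ℕ → G} {i : G} (hi : ∀ a < 7, a ≠ 1 → i * t a = t a * i) (hs : i * ev t ths = ev t ths * i)
    {l : List ℕ} (hl : ∀ a ∈ l, a ≤ 7 ∧ a ≠ 1) : i * ev t (exW l) = ev t (exW l) * i := by
  induction l with
  | nil => simp [exW]
  | cons a l ih =>
    have ih' := ih fun b hb => hl b (List.mem_cons_of_mem _ hb)
    obtain ⟨h1, h2⟩ := hl a List.mem_cons_self
    unfold exW
    split_ifs with h7
    · rw [ev_append, ← mul_assoc, hs, mul_assoc, ih', mul_assoc]
    · rw [ev_cons, ← mul_assoc, hi a (by omega) h2, mul_assoc, ih', mul_assoc]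

theorem ev_one (t : ℕ → G) (a : ℕ) : ev t [a] = t a := by rw [ev_cons, ev_nil, mul_one]

theorem degenerate {t : ℕ → G} {i : G} (hpre : Pre certE7 t) (hw0 : ev t Two.w0 = 1)
    (hi : ∀ a < 7, a ≠ 1 → i * t a = t a * i) (hs : i * ev t ths = ev t ths * i) (hii : i * i = 1)
    (hb : i * t 1 * i = t 1 * i * t 1) : t 6 * t 5 = 1 := by
  by_contra hne
  have ht1 : t 1 * t 1 = 1 := hpre.sq (by norm_num)
  obtain ⟨r, hr⟩ : ∃ r, r = ev t [3, 2, 4, 3, 1, 3, 4, 2, 3] := ⟨_, rfl⟩
  have hrr : r * r = 1 := by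
    have : eqW certE7 ([3, 2, 4, 3, 1, 3, 4, 2, 3] ++ [3, 2, 4, 3, 1, 3, 4, 2, 3]) [] = true := by rw [eqW_eq]; decide +kernel
    have h1 := hpre.eq this
    rwa [ev_append, ev_nil, ← hr] at h1
  have hrt : r * t 1 = t 1 * r := by
    have : eqW certE7 ([3, 2, 4, 3, 1, 3, 4, 2, 3] ++ [1]) ([1] ++ [3, 2, 4, 3, 1, 3, 4, 2, 3]) = true := by
      rw [eqW_eq]; decide +kernel
    have h1 := hpre.eq this
    rwa [ev_append, ev_append, ev_one, ← hr] at h1
  obtain ⟨U, hU⟩ : ∃ U, U = ev t [3, 2, 4, 3] := ⟨_, rfl⟩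
  have hUr : r = U * t 1 * U⁻¹ := by
    rw [hU, ← hpre.ev_reverse (w := [3, 2, 4, 3]) (by decide), hr]
    have : ([3, 2, 4, 3, 1, 3, 4, 2, 3] : List ℕ) = [3, 2, 4, 3] ++ ([1] ++ [3, 2, 4, 3].reverse) := by decide
    rw [this, ev_append, ev_append, ev_one, mul_assoc]
  have hiU : i * U = U * i := by
    rw [hU]
    exact comm_ev fun a ha => by
      have : ∀ a ∈ [3, 2, 4, 3], a < 7 ∧ a ≠ 1 := by decide
      exact hi a (this a ha).1 (this a ha).2
  have hir : i * r * i = r * i * r := by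
    have e1 : U⁻¹ * i = i * U⁻¹ := by rw [inv_mul_eq_iff_eq_mul, ← mul_assoc, ← hiU]; group
    calc i * r * i = (i * U) * t 1 * (U⁻¹ * i) := by rw [hUr]; group
      _ = U * (i * t 1 * i) * U⁻¹ := by rw [hiU, e1]; group
      _ = U * t 1 * i * t 1 * U⁻¹ := by rw [hb]; group
      _ = U * t 1 * (U⁻¹ * (U * i)) * t 1 * U⁻¹ := by group
      _ = U * t 1 * (U⁻¹ * (i * U)) * t 1 * U⁻¹ := by rw [hiU]
      _ = r * i * r := by rw [hUr]; group
  -- the element `j`
  obtain ⟨q, hq⟩ : ∃ q, q = r * t 1 := ⟨_, rfl⟩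
  have hqq : q * q = 1 := by
    calc q * q = r * (t 1 * r) * t 1 := by rw [hq]; group
      _ = (r * r) * (t 1 * t 1) := by rw [← hrt]; group
      _ = 1 := by rw [hrr, ht1, one_mul]
  have hqi : q⁻¹ = q := inv_eq_of_mul_eq_one_left hqq
  obtain ⟨j, hj⟩ : ∃ j, j = q * i * q := ⟨_, rfl⟩
  have hjj : j * j = 1 := by
    calc j * j = q * (i * (q * q) * i) * q := by rw [hj]; group
      _ = 1 := by rw [hqq, mul_one, hii, mul_one, hqq]
  have hcomm : i * j = j * i := by
    have e1 : (i * t 1) * i * (i * t 1)⁻¹ = t 1 := (Two.conj_of_braid hb).symm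
    have e2 : (i * t 1)⁻¹ * r * (i * t 1) = j := by
      have e3 : (i * t 1)⁻¹ = t 1 * i := by
        rw [mul_inv_rev, inv_eq_of_mul_eq_one_left hii, inv_eq_of_mul_eq_one_left ht1]
      rw [e3]
      calc t 1 * i * r * (i * t 1) = t 1 * (i * r * i) * t 1 := by group
        _ = (t 1 * r) * i * (r * t 1) := by rw [hir]; group
        _ = j := by rw [hj, hq, hrt]
    rw [← e2]
    have e4 : r * ((i * t 1) * i * (i * t 1)⁻¹) = ((i * t 1) * i * (i * t 1)⁻¹) * r := by rw [e1, hrt]
    calc i * ((i * t 1)⁻¹ * r * (i * t 1))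
        = (i * t 1)⁻¹ * (((i * t 1) * i * (i * t 1)⁻¹) * r) * (i * t 1) := by group
      _ = (i * t 1)⁻¹ * (r * ((i * t 1) * i * (i * t 1)⁻¹)) * (i * t 1) := by rw [e4]
      _ = _ := by group
  -- the double coset
  have hdc : q = ev t (exW [0, 7, 2, 3, 4, 0, 2, 3]) * t 1 * ev t (exW [4, 3, 2, 0, 7, 4, 3, 2, 0, 2, 4, 6]) := by
    have h1 : eqW certE7 ([3, 2, 4, 3, 1, 3, 4, 2, 3] ++ [1]) (exW [0, 7, 2, 3, 4, 0, 2, 3] ++ ([1] ++
      (exW [4, 3, 2, 0, 7, 4, 3, 2, 0, 2, 4, 6] ++ Two.w0))) = true := by rw [eqW_eq]; decide +kernel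
    have h2 := hpre.eq h1
    rw [ev_append, ev_append, ev_append, ev_append, hw0, mul_one, ev_one] at h2
    rw [hq, hr, h2, mul_assoc]
  have c1 := comm_exW hi hs (l := [0, 7, 2, 3, 4, 0, 2, 3]) (by decide)
  have c2 := comm_exW hi hs (l := [4, 3, 2, 0, 7, 4, 3, 2, 0, 2, 4, 6]) (by decide)
  generalize ev t (exW [0, 7, 2, 3, 4, 0, 2, 3]) = S1 at hdc c1
  generalize ev t (exW [4, 3, 2, 0, 7, 4, 3, 2, 0, 2, 4, 6]) = S2 at hdc c2
  have hj2 : j = S2⁻¹ * (t 1 * i * t 1) * S2 := by
    have e1 : q⁻¹ * i * q = S2⁻¹ * (t 1 * i * t 1) * S2 := by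
      have e2 : (t 1)⁻¹ = t 1 := inv_eq_of_mul_eq_one_left ht1
      calc q⁻¹ * i * q = S2⁻¹ * (t 1)⁻¹ * S1⁻¹ * (i * S1) * t 1 * S2 := by rw [hdc]; group
        _ = S2⁻¹ * (t 1)⁻¹ * i * t 1 * S2 := by rw [c1]; group
        _ = _ := by rw [e2]; group
    rw [hj, ← e1, hqi]
  have hbr : i * j * i = j * i * j := by
    have e1 : i * (t 1 * i * t 1) * i = t 1 := by
      rw [← hb]
      calc i * (i * t 1 * i) * i = (i * i) * t 1 * (i * i) := by group
        _ = t 1 := by rw [hii, one_mul, mul_one]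
    have e2 : (t 1 * i * t 1) * i * (t 1 * i * t 1) = t 1 := by
      calc (t 1 * i * t 1) * i * (t 1 * i * t 1) = t 1 * (i * (t 1 * i * t 1) * i) * t 1 := by group
        _ = t 1 := by rw [e1, ht1, one_mul]
    have e3 : S2 * i * S2⁻¹ = i := by rw [← c2]; group
    calc i * j * i = S2⁻¹ * ((S2 * i * S2⁻¹) * (t 1 * i * t 1) * (S2 * i * S2⁻¹)) * S2 := by rw [hj2]; group
      _ = S2⁻¹ * ((t 1 * i * t 1) * (S2 * i * S2⁻¹) * (t 1 * i * t 1)) * S2 := by rw [e3, e1, e2]
      _ = j * i * j := by rw [hj2]; group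
  have hij : i = j := by
    have e1 : i * j * i = j := by rw [hcomm, mul_assoc, hii, mul_one]
    have e2 : j * i * j = i := by rw [← hcomm, mul_assoc, hjj, mul_one]
    rw [← e2, ← hbr, e1]
  have hiq : i * q * i = q := by
    have e1 : i = q * i * q := hij.trans hj
    calc i * q * i = (q * i * q) * q * i := by rw [← e1]
      _ = q * i * (q * q) * i := by group
      _ = q := by rw [hqq, mul_one, mul_assoc, hii, mul_one]
  have hq1 : q = 1 := by
    calc q = i * q * i := hiq.symm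
      _ = (i * r * i) * (i * t 1 * i) := by
          calc i * q * i = i * r * (i * i) * t 1 * i := by rw [hii, hq]; group
            _ = _ := by group
      _ = r * (i * q * i) * t 1 := by rw [hir, hb, hq]; group
      _ = (r * r) * (t 1 * t 1) := by rw [hiq, hq]; group
      _ = 1 := by rw [hrr, ht1, one_mul]
  refine hpre.ne_one (x := [3, 2, 4, 3, 1, 3, 4, 2, 3, 1]) [5] [3, 2, 1, 3, 4, 5, 6, 5, 4] (a := 6) (b := 5) hne
    (by decide) (by decide) (by decide) (by rw [eqW_eq]; decide +kernel) ?_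
  have : ([3, 2, 4, 3, 1, 3, 4, 2, 3, 1] : List ℕ) = [3, 2, 4, 3, 1, 3, 4, 2, 3] ++ [1] := by decide
  rw [this, ev_append, ev_one, ← hr, ← hq]
  exact hq1

end Abstract

theorem T_ne22 (hnc : ∃ g h : Fi22, g * h ≠ h * g) : FiTwo.T (fun a => g22 (f22 a)) (g22 .g) ≠ 1 := by
  intro hT
  have h1 : g22 .g = ev (fun a => g22 (f22 a)) ths := by
    unfold FiTwo.T at hT
    rw [← inv_eq_of_mul_eq_one_left ctx22.ss]
    exact eq_inv_of_mul_eq_one_left hT
  refine ne_of_nc hnc .a .b 8 (by decide) (by decide) (by intro x; cases x <;> decide +kernel) (edges := Fi22.edges)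
    (extra := Fi22.extra) ?_
  refine degenerate (t := fun a => g22 (f22 a)) (i := g22 .i) pre22 w0_22 ?_ ?_ (gn_sq (nodes22 _))
    (gn_braid (nodes22 _) (nodes22 _) (by decide))
  · intro a ha h1
    have : ∀ a < 7, a ≠ 1 → coxLabel Fi22.edges .i (f22 a) = 2 := by decide
    exact gn_comm (nodes22 _) (nodes22 _) (this a ha h1)
  · rw [← h1]
    exact gn_comm (nodes22 _) (nodes22 _) (by decide)

theorem fi22_ls_two [IsSimpleGroup Fi22] (hnc : ∃ g h : Fi22, g * h ≠ h * g) : LS.{0, v, w} 2 28 Fi22 :=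
  ls_two ctx22 (T_ne22 hnc)

end Cfsg.Agent.H806.Ls
end

private theorem dce_a2e2c008fe58 : _root_.True := by
  try have : _root_.True := by simp only [_root_.Cfsg.Agent.H806.Ls.exW.eq_def]
  try have : _root_.True := by simp only [_root_.Cfsg.Agent.H806.Ls.sg.eq_1]
  try have : _root_.True := by simp only [_root_.Cfsg.Agent.H806.Ls.Two.X.congr_simp]
  try have : _root_.True := by simp only [_root_.Cfsg.Agent.H806.Ls.CE.br.congr_simp]
  try have : _root_.True := by simp only [_root_.Cfsg.Agent.H806.Ls.exW.eq_1]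
  try have : _root_.True := by simp only [_root_.Cfsg.Agent.H806.Ls.exW.eq_2]
  exact _root_.True.intro
end

-- part: H489/DegON
section
set_option linter.all false
open scoped Cfsg.Agent.FastGrp

/-!
# The O'Nan group has no projective representations of degree at most 13 (helper489)

Characteristic not 31: `31 : 15`. Characteristic 31: a group `7^(1+2)` with inverted centre.
-/

set_option autoImplicit false
set_option maxRecDepth 100000

universe u v

namespace Cfsg.Agent.H489.Deg.ON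

open Cfsg
open Cfsg.Spor.ON (Gen)
open Cfsg.Agent.KFacts.MulSpor.ON (w w_append w_one w_cons w_iw iw okw rel eqw cj mats)
open Cfsg.Agent.SporadicB.ON45Word (on LW)
open Cfsg.Agent.ONType.TupRow (rowNe ne_of_rowNe)
open Cfsg.Agent.H912.Bd Cfsg.Agent.H921.Spor Cfsg.Agent.H915.LD
open Matrix (GeneralLinearGroup)

section FastPackMat
open Cfsg.Agent.Lib.PackMat

/-- one step on a row which is followed by 64 arbitrary bits -/
private noncomputable def fStep (p r m t nf GM FM LO HI HT P G : ℕ) : ℕ :=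
  Nat.add (Nat.shiftLeft ((fun F => Nat.sub F (Nat.mul p (Nat.land (Nat.shiftRight (Nat.mul F m) t) HT)))
    (Nat.rec (Nat.mod (Nat.land (Nat.mul (Nat.shiftRight P 64) G) GM) FM)
      (fun _ F => Nat.add (Nat.land F LO) (Nat.land (Nat.shiftRight F r) HI)) nf)) 64)
    (Nat.mod (Nat.add P 1) 18446744073709551557)

private theorem fFold (r LO HI k : ℕ) : ∀ F, foldK r LO HI k F =
    Nat.rec F (fun _ F => Nat.add (Nat.land F LO) (Nat.land (Nat.shiftRight F r) HI)) k := by
  have key : ∀ (f : ℕ → ℕ) (k F : ℕ), (Nat.rec (f F) (fun _ F => f F) k : ℕ) = f (Nat.rec F (fun _ F => f F) k) :=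
    fun f k F => by
      induction k with
      | zero => rfl
      | succ k ih => exact congrArg f ih
  induction k with
  | zero => exact fun _ => rfl
  | succ k ih => exact fun F => (ih _).trans (key (fun F => Nat.add (Nat.land F LO) (Nat.land (Nat.shiftRight F r) HI)) k F)

private theorem fShift (x y : ℕ) : Nat.shiftRight (Nat.add (Nat.shiftLeft x 64) (Nat.mod y 18446744073709551557)) 64 = x := by
  have h : y % 18446744073709551557 < 18446744073709551557 := Nat.mod_lt _ (by decide)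
  show (x <<< 64 + y % 18446744073709551557) >>> 64 = x
  rw [Nat.shiftLeft_eq, Nat.shiftRight_eq_div_pow]
  omega

private noncomputable def fRun (p r m t nf GM FM LO HI HT : ℕ) (w : List ℕ) : ℕ → ℕ :=
  List.rec (fun P => Nat.shiftRight P 64) (fun g _ ih P => force (fStep p r m t nf GM FM LO HI HT P g) ih) w

private theorem fRun_eq (p r m t nf GM FM LO HI HT : ℕ) (w : List ℕ) : ∀ P, fRun p r m t nf GM FM LO HI HT w P =
    runK p r m t nf GM FM LO HI HT w (Nat.shiftRight P 64) := by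
  induction w with
  | nil => exact fun _ => rfl
  | cons g w ih =>
    intro P
    refine (ih (fStep p r m t nf GM FM LO HI HT P g)).trans (congrArg (runK p r m t nf GM FM LO HI HT w) ?_)
    refine (fShift _ _).trans ?_
    rw [← fFold]
    rfl

private noncomputable def fList (w : List ℕ) : (List ℕ → Bool) → Bool :=
  List.rec (fun k => k []) (fun g _ ih k => force g fun g' => ih fun l => k (g' :: l)) w

private theorem fList_eq (w : List ℕ) : ∀ k, fList w k = k w := by
  induction w with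
  | nil => exact fun _ => rfl
  | cons g w ih => exact fun k => ih fun l => k (g :: l)

/-- the start of the row number `i` -/
private noncomputable def fIni (R i : ℕ) : ℕ := Nat.add (Nat.shiftLeft R 64) (Nat.mod i 18446744073709551557)

/-- `checkScalar` -/
private noncomputable def fScalar (C : Cfg) (w : List ℕ) (c lo cnt : ℕ) : Bool :=
  bif Nat.ble (lo + cnt) C.n then fList w fun w =>
    withC C fun s p r m t nf GM FM LO HI HT => force (unitRow C 1 lo) fun R =>
      Nat.rec (motive := fun _ => ℕ → Bool) (fun _ => true) (fun i ih R =>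
        bif Nat.beq (fRun p r m t nf GM FM LO HI HT w (fIni R i)) (Nat.mul c R) then force (Nat.shiftRight R s) ih
        else false) cnt R
  else false

private theorem fScalar_eq (C : Cfg) (w : List ℕ) (c lo cnt : ℕ) : checkScalar C w c lo cnt = fScalar C w c lo cnt := by
  have key : ∀ s p r m t nf GM FM LO HI HT cnt R, checkScalarK s p r m t nf GM FM LO HI HT w c cnt R =
      Nat.rec (motive := fun _ => ℕ → Bool) (fun _ => true) (fun i ih R =>
        bif Nat.beq (fRun p r m t nf GM FM LO HI HT w (fIni R i)) (Nat.mul c R) then force (Nat.shiftRight R s) ih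
        else false) cnt R := fun s p r m t nf GM FM LO HI HT cnt => by
    induction cnt with
    | zero => exact fun _ => rfl
    | succ i ih =>
      intro R
      show (bif Nat.beq (runK p r m t nf GM FM LO HI HT w R) (Nat.mul c R) then
        checkScalarK s p r m t nf GM FM LO HI HT w c i (Nat.shiftRight R s) else false) =
        bif Nat.beq (fRun p r m t nf GM FM LO HI HT w (fIni R i)) (Nat.mul c R) then _ else false
      rw [ih, fRun_eq, fIni, fShift]
      rfl
  rw [fScalar, fList_eq]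
  exact congrArg (fun b => bif Nat.ble (lo + cnt) C.n then b else false) (key _ _ _ _ _ _ _ _ _ _ _ _ _)

end FastPackMat

open Cfsg.Agent.SporadicB.ON45Data (C45) in
private noncomputable def fokw (l : List Gen) : Bool :=
  fScalar C45 (mats l) 1 0 45 || (fScalar C45 (mats l) 2 0 45 || fScalar C45 (mats l) 4 0 45)

private theorem okw_of {l : List Gen} (h : fokw l = true) : okw l = true := by
  rw [fokw, ← fScalar_eq, ← fScalar_eq, ← fScalar_eq] at h
  exact h

/-- letters -/
def gn : ℕ → Gen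
  | 0 => .a
  | 1 => .b
  | 2 => .c
  | 3 => .d
  | 4 => .e
  | 5 => .f
  | _ => .g

theorem hs : IsSimpleGroup Cfsg.Spor.ON := Cfsg.Agent.S1699.result.1

/-- the words -/
noncomputable def wd : Wd Cfsg.Spor.ON where
  W := fun u => w (u.map gn)
  nil := rfl
  app := fun u v => by rw [List.map_append, w_append]
  eq := fun u v => okw (u.map gn ++ iw (v.map gn))
  eq_sound := fun h => eqw hs _ _ h
  ne := fun u => rowNe (mats (u.map gn)) (mats [])
  ne_sound := fun h => ne_of_rowNe (LW.word _) (LW.word []) h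

private theorem eq_of {u v : List ℕ} (h : fokw (u.map gn ++ iw (v.map gn)) = true) : wd.eq u v = true := okw_of h

/-- letters `b a e d ...` of the elements of order 7 -/
def wx : List ℕ := [1, 0, 4, 3, 2, 3, 2, 4, 3, 2, 5, 4]
def wy : List ℕ := [1, 3, 2, 1, 3, 2, 3, 2, 4, 3, 2, 1, 3, 2]
def wc : List ℕ := wx ++ wy ++ wx.reverse ++ wy.reverse

private theorem c31 : wd.chkP 31 10 [6, 4, 1, 3, 2] [0, 2, 6, 6, 6, 1, 2, 4, 3, 2, 6, 3, 4, 3, 2] = true := by
  unfold Wd.chkP
  rw [eq_of (by decide +kernel), eq_of (by decide +kernel)]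
  decide +kernel

theorem on_thirtyone : Conf 31 15 Cfsg.Spor.ON :=
  wd.conf_prime (r := 31) (k := 10) [6, 4, 1, 3, 2] [0, 2, 6, 6, 6, 1, 2, 4, 3, 2, 6, 3, 4, 3, 2] 15
    (by norm_num) c31 (by decide)

theorem c1 : wd.ne wc = true := by decide +kernel
theorem c2 : wd.eq (Wd.rep wc 7) [] = true := eq_of (by decide +kernel)
theorem c3 : wd.eq ([5, 1] ++ wc) (Wd.rep wc 6 ++ [5, 1]) = true := eq_of (by decide +kernel)
theorem c4 : wd.eq (wx ++ wc) (wc ++ wx) = true := eq_of (by decide +kernel)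
theorem c5 : wd.eq (wy ++ wc) (wc ++ wy) = true := eq_of (by decide +kernel)
theorem c6 : wd.eq (Wd.rep wx 7) [] = true := eq_of (by decide +kernel)
theorem c7 : wd.eq (wx ++ wy) (wc ++ (wy ++ wx)) = true := eq_of (by decide +kernel)

theorem chk : wd.chkX 7 6 wx wy wc [5, 1] = true := by
  unfold Wd.chkX
  rw [c1, c2, c3, c4, c5, c6, c7]
  rfl

theorem on_seven {F : Type u} [Field F] (h7 : ((7 : ℕ) : F) ≠ 0) : Bd F 7 (2 * 7) Cfsg.Spor.ON :=
  wd.bd_ext 2 (by norm_num) h7 chk (by decide)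

/-- **The O'Nan group: degree at least 14.** -/
theorem on_le {p : ℕ} (hp : p.Prime) {F : Type u} [Field F] [Finite F] [CharP F p] {n : ℕ}
    {P : Subgroup (GL (Fin n) F)} (hC : Core P) (e : Soc P ≃* Cfsg.Spor.ON) : 14 ≤ n := by
  by_cases h31 : p = 31
  · exact le_of_bd hC e Cfsg.Agent.S2052.result (r := 7) (by norm_num)
      (on_seven (F := F) (cast_ne (F := F) hp (by norm_num : (7 : ℕ).Prime) (by omega)))
  · have h := le_of_bd hC e Cfsg.Agent.S2052.result (r := 31) (by norm_num)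
      (on_thirtyone.bd (F := F) (by norm_num) (cast_ne (F := F) hp (by norm_num : (31 : ℕ).Prime) h31))
    omega

end Cfsg.Agent.H489.Deg.ON
end

-- part: H95/LSx/O73
section
set_option linter.all false
open scoped Cfsg.Agent.FastGrp

/-!
# `Ω₇(3)`: every nontrivial representation of a perfect central extension in characteristic `≠ 3` has degree
at least `26` (helper95, T16)

It contains `Ω⁺₆(3)`, a central extension of `L₄(3)`, whose multiplier has order `2`.
-/

set_option autoImplicit false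

universe u v w

namespace Cfsg.Agent.H95.LSx

open Subgroup Cfsg.Agent.H203.LS Cfsg.Agent.H912.Bd

theorem ls_psl43 {K : Type} [Field K] [Fintype K] (hK : Fintype.card K = 3) :
    LS.{0, v, w} 3 26 (Matrix.ProjectiveSpecialLinearGroup (Fin 4) K) := by
  have : IsSimpleGroup (Matrix.ProjectiveSpecialLinearGroup (Fin 4) K) := Cfsg.Agent.S0249.result 4 (by norm_num)
  have hchar : CharP K 3 := charP_of_card_eq_prime hK
  have hN : NoR.{w} 3 (Matrix.ProjectiveSpecialLinearGroup (Fin 4) K) :=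
    NoR.of_cyclic (Cfsg.Agent.S2086.result (F := K) hK 4 (by norm_num) (by norm_num) (by norm_num)) (by norm_num)
  refine LS.univ (LS.of_bd hN fun k _ hk => ?_)
  have h1 := bd_psl (F := k) Nat.prime_three hk (m := 4) (by norm_num) (K := K) hchar
  rw [hK] at h1
  exact h1

/-- **`LS` for `Ω₇(3)`**: `26`. -/
theorem ls_o73 {K : Type} [Field K] [Fintype K] (hK : Fintype.card K = 3) :
    LS.{0, v, w} 3 26 (Cfsg.POmega K (Cfsg.quadFormOdd 3 K)) := by
  have : IsSimpleGroup (Cfsg.POmega K (Cfsg.quadFormOdd 3 K)) :=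
    Cfsg.Agent.S0295.result (by rw [hK]; decide) 3 le_rfl
  obtain ⟨e⟩ := Cfsg.Agent.S0302.result (F := K)
  obtain ⟨f, hf⟩ := exists_odd (K := K) (m := 3) (n := 3) le_rfl
  have h4 : IsSimpleGroup (Matrix.ProjectiveSpecialLinearGroup (Fin 4) K) := Cfsg.Agent.S0249.result 4 (by norm_num)
  have hp : commutator (Matrix.ProjectiveSpecialLinearGroup (Fin 4) K) = ⊤ :=
    perfect_of_surj (Cfsg.Agent.LieClassical.SLGen.commutator_eq_top (by rw [Fintype.card_fin]; norm_num))
      (QuotientGroup.mk'_surjective (center (Matrix.SpecialLinearGroup (Fin 4) K)))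
  have hker : (e.toMonoidHom.comp (QuotientGroup.mk' (center (Cfsg.Omega K (Cfsg.quadFormPlus 3 K))))).ker ≤
      center (Cfsg.Omega K (Cfsg.quadFormPlus 3 K)) := by
    intro x hx
    rw [MonoidHom.mem_ker, MonoidHom.comp_apply] at hx
    have h1 : QuotientGroup.mk' (center (Cfsg.Omega K (Cfsg.quadFormPlus 3 K))) x = 1 := e.map_eq_one_iff.1 hx
    exact (QuotientGroup.eq_one_iff x).1 h1
  exact LS.of_hom_center hp (e.toMonoidHom.comp (QuotientGroup.mk' _))
    (e.surjective.comp (QuotientGroup.mk'_surjective _)) hker f hf (ls_psl43 hK)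

end Cfsg.Agent.H95.LSx
end

-- part: H921/SporFi24
section
set_option linter.all false
open scoped Cfsg.Agent.FastGrp

/-!
# `Fi₂₄'`: bounds from the Held group
-/

set_option autoImplicit false

namespace Cfsg.Agent.H921.Spor.Fi24

open Cfsg.Spor
open scoped commutatorElement

theorem _root_.Cfsg.Agent.H921.Spor.Conf.nc {r m : ℕ} {T : Type*} [Group T] (h : Conf r m T) (hm : 2 ≤ m) :
    ¬ ∀ a b : T, a * b = b * a := by
  obtain ⟨E, e₀, S, hfin, hE, hEr, he₀, he₁, hS', hS, hd⟩ := h
  intro hc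
  obtain ⟨s, hs, t, ht, hst⟩ := Finset.one_lt_card.1 (by omega : 1 < S.card)
  obtain ⟨e, he, h1⟩ := hd s hs t ht hst
  apply he₁
  rw [← h1, hc s e, hc t e, mul_inv_cancel_right, mul_inv_cancel_right, mul_inv_cancel]

theorem exists_He : ∃ ψ : Cfsg.Spor.He →* Cfsg.Spor.Fi24', Function.Injective ψ := by
  obtain ⟨ψ, hψ⟩ := Cfsg.Agent.H868.HeFi24.exists_embedding
  have hs : IsSimpleGroup Cfsg.Spor.He := Cfsg.Agent.S1695.result.1
  have hnc : ¬ ∀ a b : Cfsg.Spor.He, a * b = b * a := He.He_seventeen.nc (by norm_num)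
  have hperf : commutator Cfsg.Spor.He = ⊤ := by
    rcases (inferInstance : (commutator Cfsg.Spor.He).Normal).eq_bot_or_eq_top with h | h
    · exfalso
      apply hnc
      intro a b
      have h1 : ⁅a, b⁆ ∈ commutator Cfsg.Spor.He := Subgroup.commutator_mem_commutator (Subgroup.mem_top a) (Subgroup.mem_top b)
      rw [h, Subgroup.mem_bot, commutatorElement_eq_one_iff_mul_comm] at h1
      exact h1
    · exact h
  have hmem : ∀ x, ψ x ∈ commutator Cfsg.Spor.Fi24 := by
    intro x
    have h1 : x ∈ commutator Cfsg.Spor.He := by rw [hperf]; trivial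
    have h2 : (commutator Cfsg.Spor.He).map ψ ≤ commutator Cfsg.Spor.Fi24 := by
      rw [commutator_def, Subgroup.map_commutator, commutator_def]
      exact Subgroup.commutator_mono le_top le_top
    exact h2 ⟨x, h1, rfl⟩
  exact ⟨ψ.codRestrict _ hmem, fun a b h => hψ (congrArg Subtype.val h)⟩

theorem Fi24_seven : Orb 7 42 Cfsg.Spor.Fi24' := by
  obtain ⟨f, hf⟩ := exists_He
  exact He.He_seven.of_inj f hf

theorem Fi24_five : Orb 5 24 Cfsg.Spor.Fi24' := by
  obtain ⟨f, hf⟩ := exists_He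
  exact He.He_five.of_inj f hf

end Cfsg.Agent.H921.Spor.Fi24
end

-- part: H489/DegHN
section
prune_inst 0x1020610404000000000000001000004024000002002300009140014001040143000007007020131011002a20000800400000004900000000000004004000000000a0100030000000000006809002000000000000000000000000000000000000000000000
set_option linter.all false
open scoped Cfsg.Agent.FastGrp

-- part: H489/OrbPow
section
/-!
# Abelian configurations of exponent `r ^ κ` by linear algebra (helper489)

The same as `Orb.of_lin`, for commuting elements with `x i ^ r ^ κ = 1` and relations `R` between them.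
-/

set_option autoImplicit false

universe u v w

namespace Cfsg.Agent.H921.Spor

variable {r : ℕ} {T : Type v} [Group T]

theorem Orb.of_lin_pow (hr : r.Prime) (κ : ℕ) (d M m : ℕ) (x s : ℕ → T) (hx : ∀ i, x i ^ r ^ κ = 1)
    (hxd : ∀ i, d ≤ i → x i = 1) (hc : ∀ i j, x i * x j = x j * x i) (c₀ : List ℕ) (h₀ : pv x 0 c₀ ≠ 1)
    (R : List (List ℕ)) (hR : ∀ ρ ∈ R, pv x 0 ρ = 1) (A : ℕ → List (List ℕ))
    (hAl : ∀ j < M, (A j).length = d)
    (hA : ∀ j < M, ∀ i < d, s j * x i * (s j)⁻¹ = pv x 0 ((A j).getD i []))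
    (hd : (vecs (r ^ κ) d).all (fun χ => R.any (fun ρ => !(Nat.beq (dot χ ρ % r ^ κ) 0)) ||
      (Nat.beq (dot χ c₀ % r ^ κ) 0 ||
      Nat.ble m (cnt ((List.range M).map fun j => enc (r ^ κ) χ (A j))))) = true) : Orb r m T := by
  classical
  have hqpos : 0 < r ^ κ := pow_pos hr.pos κ
  set E : Subgroup T := Subgroup.closure (Set.range x) with hEdef
  have hxE : ∀ i, x i ∈ E := fun i => Subgroup.subset_closure ⟨i, rfl⟩
  have hE : ∀ u ∈ E, ∀ v ∈ E, u * v = v * u := by
    have hcomm : ∀ u ∈ Set.range x, ∀ v ∈ Set.range x, u * v = v * u := by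
      rintro _ ⟨i, rfl⟩ _ ⟨j, rfl⟩
      exact hc i j
    intro u hu v hv
    have h1 : IsMulCommutative E := Subgroup.isMulCommutative_closure hcomm
    exact congrArg Subtype.val (h1.is_comm.comm (⟨u, hu⟩ : E) ⟨v, hv⟩)
  have hpow : ∀ u ∈ E, u ^ r ^ κ = 1 := by
    intro u hu
    induction hu using Subgroup.closure_induction with
    | mem y hy =>
      obtain ⟨i, rfl⟩ := hy
      exact hx i
    | one => simp
    | mul y z hy hz h1 h2 =>
      have : Commute y z := hE y hy z hz
      rw [this.mul_pow, h1, h2, one_mul]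
    | inv y hy h1 => rw [inv_pow, h1, inv_one]
  have hfinr : (Set.range x).Finite := by
    apply ((Set.finite_range (fun k : Fin d => x k)).union (Set.finite_singleton (1 : T))).subset
    rintro _ ⟨i, rfl⟩
    by_cases hi : i < d
    · exact Or.inl ⟨⟨i, hi⟩, rfl⟩
    · exact Or.inr (hxd i (by omega))
  have hfin : Finite E := by
    have h2 : Group.FG E := by
      rw [Group.fg_iff_subgroup_fg]
      exact ⟨hfinr.toFinset, by rw [hEdef, Set.Finite.coe_toFinset]⟩
    let _ : CommGroup E := { (inferInstance : Group E) with mul_comm := fun u v => Subtype.ext (hE u u.2 v v.2) }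
    have h3 : IsMulTorsion E := by
      intro u
      rw [isOfFinOrder_iff_pow_eq_one]
      exact ⟨r ^ κ, hqpos, Subtype.ext (hpow u u.2)⟩
    exact CommGroup.finite_of_fg_isMulTorsion E h3
  have hpvE : ∀ (l : List ℕ) (i : ℕ), pv x i l ∈ E := by
    intro l
    induction l with
    | nil => intro i; exact E.one_mem
    | cons a l ih => intro i; exact E.mul_mem (E.pow_mem (hxE i) a) (ih _)
  have hpv1 : ∀ (l : List ℕ) (i : ℕ), d ≤ i → pv x i l = 1 := by
    intro l
    induction l with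
    | nil => intro i _; rfl
    | cons a l ih =>
      intro i hi
      change x i ^ a * pv x (i + 1) l = 1
      rw [hxd i hi, ih (i + 1) (by omega), one_pow, one_mul]
  -- the `s j` normalise `E`
  have hnorm : ∀ j < M, ∀ e ∈ E, s j * e * (s j)⁻¹ ∈ E := by
    intro j hj e he
    induction he using Subgroup.closure_induction with
    | mem y hy =>
      obtain ⟨i, rfl⟩ := hy
      by_cases hi : i < d
      · rw [hA j hj i hi]; exact hpvE _ _
      · rw [hxd i (by omega)]; simp
    | one => simp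
    | mul y z hy hz h1 h2 =>
      have := E.mul_mem h1 h2
      convert this using 1
      group
    | inv y hy h1 =>
      have := E.inv_mem h1
      convert this using 1
      group
  refine ⟨E, pv x 0 c₀, κ, hfin, hE, hpow, hpvE _ _, h₀, ?_⟩
  intro f hf hf0
  have hf1 : f 1 = 0 := by
    have := hf 1 E.one_mem 1 E.one_mem
    rw [mul_one] at this
    exact left_eq_add.1 this
  have hfpow : ∀ e ∈ E, ∀ a : ℕ, f (e ^ a) = a * f e := by
    intro e he a
    induction a with
    | zero => rw [pow_zero, hf1]; simp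
    | succ a ih =>
      rw [pow_succ, hf _ (E.pow_mem he a) _ he, ih]
      push_cast
      ring
  have hrpos : NeZero (r ^ κ) := ⟨hqpos.ne'⟩
  let g : ℕ → ℕ := fun i => (f (x i)).val
  have hg : ∀ i, ((g i : ℕ) : ZMod (r ^ κ)) = f (x i) := fun i => ZMod.natCast_zmod_val _
  have hglt : ∀ i, g i < r ^ κ := fun i => ZMod.val_lt _
  have hdot : ∀ (l : List ℕ) (i n : ℕ), i + n = d → f (pv x i l) = (dot (vals g i n) l : ℕ) := by
    intro l
    induction l with
    | nil =>
      intro i n _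
      change f 1 = _
      rw [hf1]
      cases n <;> simp [vals, dot]
    | cons a l ih =>
      intro i n hin
      cases n with
      | zero =>
        rw [hpv1 _ i (by omega), hf1]
        simp [vals, dot]
      | succ n =>
        change f (x i ^ a * pv x (i + 1) l) = _
        rw [hf _ (E.pow_mem (hxE i) a) _ (hpvE _ _), hfpow _ (hxE i), ih (i + 1) n (by omega)]
        simp only [vals, dot]
        push_cast
        rw [hg]
        ring
  have h1 := List.all_eq_true.1 hd (vals g 0 d) (mem_vecs (length_vals g 0 d) (lt_of_mem_vals hglt 0 d))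
  rw [Bool.or_eq_true, Bool.or_eq_true] at h1
  have h2 : Nat.ble m (cnt ((List.range M).map fun j => enc (r ^ κ) (vals g 0 d) (A j))) = true := by
    have h1 := h1.resolve_left (by
      intro h3
      rw [List.any_eq_true] at h3
      obtain ⟨ρ, hρ, h3⟩ := h3
      have h4 := hdot ρ 0 d (by omega)
      rw [hR ρ hρ, hf1] at h4
      have h5 := ((ZMod.natCast_eq_zero_iff _ _).1 h4.symm)
      rw [Nat.mod_eq_zero_of_dvd h5] at h3
      exact absurd h3 (by decide))
    refine h1.resolve_left ?_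
    intro h3
    apply hf0
    rw [hdot c₀ 0 d (by omega)]
    have h4 := Nat.eq_of_beq_eq_true h3
    rw [ZMod.natCast_eq_zero_iff]
    exact Nat.dvd_of_mod_eq_zero h4
  have h3 : m ≤ ((List.range M).map fun j => enc (r ^ κ) (vals g 0 d) (A j)).toFinset.card :=
    le_trans (Nat.le_of_ble_eq_true h2) (cnt_le _)
  obtain ⟨I, hI1, hI2⟩ := Finset.exists_subset_card_eq h3
  have h4 : ∀ y ∈ I, ∃ j, j < M ∧ enc (r ^ κ) (vals g 0 d) (A j) = y := by
    intro y hy
    have := List.mem_toFinset.1 (hI1 hy)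
    obtain ⟨j, hj, hjy⟩ := List.mem_map.1 this
    exact ⟨j, List.mem_range.1 hj, hjy⟩
  choose! τ hτ1 hτ2 using h4
  -- different encodings give different functions
  have key : ∀ y ∈ I, ∀ z ∈ I, y ≠ z → ∃ i < d,
      f (s (τ y) * x i * (s (τ y))⁻¹) ≠ f (s (τ z) * x i * (s (τ z))⁻¹) := by
    intro y hy z hz hyz
    by_contra hcon
    push Not at hcon
    apply hyz
    rw [← hτ2 y hy, ← hτ2 z hz]
    apply enc_eq
    · rw [hAl _ (hτ1 y hy), hAl _ (hτ1 z hz)]
    · intro i hi
      rw [hAl _ (hτ1 y hy)] at hi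
      have h5 := hcon i hi
      rw [hA _ (hτ1 y hy) i hi, hA _ (hτ1 z hz) i hi, hdot _ 0 d (by omega), hdot _ 0 d (by omega),
        ZMod.natCast_eq_natCast_iff] at h5
      exact h5
  refine ⟨I.image (fun y => s (τ y)), ?_, ?_, ?_⟩
  · rw [Finset.card_image_of_injOn, hI2]
    intro y hy z hz hyz
    by_contra hne
    obtain ⟨i, -, h5⟩ := key y hy z hz hne
    apply h5
    simp only at hyz
    rw [hyz]
  · intro u hu e he
    obtain ⟨y, hy, rfl⟩ := Finset.mem_image.1 hu
    exact hnorm _ (hτ1 y hy) e he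
  · intro u hu v hv huv
    obtain ⟨y, hy, rfl⟩ := Finset.mem_image.1 hu
    obtain ⟨z, hz, rfl⟩ := Finset.mem_image.1 hv
    obtain ⟨i, -, h5⟩ := key y hy z hz (fun h => huv (by rw [h]))
    exact ⟨x i, hxE i, h5⟩

namespace Wd

variable (w : Wd T)

/-- The conditions of `Orb.of_lin_pow`. -/
def chkQ (r κ d M m : ℕ) (X R S : List (List ℕ)) (Al : List (List (List ℕ))) (c₀ : List ℕ) : Bool :=
  Nat.beq X.length d &&
  (X.all fun P => w.eq (rep P (r ^ κ)) []) &&
  (X.all fun P => X.all fun Q => w.eq (P ++ Q) (Q ++ P)) &&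
  w.ne (pvW X 0 c₀) &&
  (R.all fun ρ => w.eq (pvW X 0 ρ) []) &&
  ((List.range M).all fun j => Nat.beq (Al.getD j []).length d &&
    (List.range d).all fun i => w.eq (S.getD j [] ++ X.getD i [])
      (pvW X 0 ((Al.getD j []).getD i []) ++ S.getD j [])) &&
  ((vecs (r ^ κ) d).all (fun χ => R.any (fun ρ => !(Nat.beq (dot χ ρ % r ^ κ) 0)) ||
      (Nat.beq (dot χ c₀ % r ^ κ) 0 ||
      Nat.ble m (cnt ((List.range M).map fun j => enc (r ^ κ) χ (Al.getD j []))))))

theorem orb_pow {r κ d M m : ℕ} {X R S : List (List ℕ)} {Al : List (List (List ℕ))} {c₀ : List ℕ} (hr : r.Prime)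
    (h : w.chkQ r κ d M m X R S Al c₀ = true) : Orb r m T := by
  unfold chkQ at h
  simp only [Bool.and_eq_true] at h
  obtain ⟨⟨⟨⟨⟨⟨hXd, hXr⟩, hXc⟩, hc₀⟩, hR⟩, hA⟩, hd⟩ := h
  have hXd' := Nat.eq_of_beq_eq_true hXd
  refine Orb.of_lin_pow hr κ d M m (fun i => w.W (X.getD i []))
    (fun j => w.W (S.getD j [])) ?_ ?_ ?_ c₀ ?_ R ?_ (fun j => Al.getD j []) ?_ ?_ hd
  · intro i
    rcases mem_or_getD (X := X) i with h1 | h1
    · rw [← W_rep, w.eq_sound (List.all_eq_true.1 hXr _ h1), w.nil]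
    · rw [h1, w.nil, one_pow]
  · intro i hi
    rw [List.getD_eq_default _ _ (by omega), w.nil]
  · intro i j
    rcases mem_or_getD (X := X) i with h1 | h1
    · rcases mem_or_getD (X := X) j with h2 | h2
      · rw [← w.app, w.eq_sound (List.all_eq_true.1 (List.all_eq_true.1 hXc _ h1) _ h2), w.app]
      · rw [h2, w.nil, mul_one, one_mul]
    · rw [h1, w.nil, mul_one, one_mul]
  · rw [← w.W_pvW]
    exact w.ne_sound hc₀
  · intro ρ hρ
    rw [← w.W_pvW, w.eq_sound (List.all_eq_true.1 hR _ hρ), w.nil]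
  · intro j hj
    have h1 := List.all_eq_true.1 hA j (List.mem_range.2 hj)
    rw [Bool.and_eq_true] at h1
    exact Nat.eq_of_beq_eq_true h1.1
  · intro j hj i hi
    have h1 := List.all_eq_true.1 hA j (List.mem_range.2 hj)
    rw [Bool.and_eq_true] at h1
    have h2 := w.eq_sound (List.all_eq_true.1 h1.2 i (List.mem_range.2 hi))
    rw [mul_inv_eq_iff_eq_mul, ← w.W_pvW, ← w.app, h2, w.app]

end Wd

end Cfsg.Agent.H921.Spor
end

-- part: H489/DegHS2
section
/-!
# The double cover of the Higman–Sims group has no faithful representations of degree at most 12 (helper489)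

The preimage `E ≅ 4³ × 2` of `4³ : L₃(2)`: the characters of `E` which do not vanish on a certain involution of `E` have
orbits of length at least 14 under the normaliser of `E`.
-/

set_option autoImplicit false
set_option maxRecDepth 100000

universe u v

namespace Cfsg.Agent.H489.Deg.HS2

open Cfsg Cfsg.Agent.HN.HS100 Cfsg.Agent.HN.P1408 Cfsg.Agent.HN.Pres Cfsg.Agent.HN.H0Basic
open Cfsg.Agent.H912.Bd Cfsg.Agent.H921.Spor Cfsg.Agent.H915.LD
open Matrix (GeneralLinearGroup)

/-- letters for the generators `x, y, zxz, zyz` of the double cover and their inverses -/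
def ex : ℕ → List ℕ
  | 0 => [0]
  | 1 => [1]
  | 2 => [2]
  | 3 => [3]
  | 4 => [4, 0, 4]
  | 5 => [4, 1, 4]
  | 6 => [4, 2, 4]
  | 7 => [4, 3, 4]
  | _ => []

theorem z_inv : (gz : H0)⁻¹ = gz := by
  rw [inv_eq_iff_mul_eq_one, ← pow_two]
  exact rels_H0.r7

theorem conj_mem {a : List ℕ} (h : hw a ∈ K) : hw ([4] ++ a ++ [4]) ∈ K := by
  rw [hw_append, hw_append, hw_z]
  have := K_normal.conj_mem _ h gz
  rwa [z_inv] at this

theorem mem_ex (l : ℕ) : hw (ex l) ∈ K := by
  have h0 : hw [0] ∈ K := by rw [hw_x]; exact gx_mem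
  have h1 : hw [1] ∈ K := by rw [hw_xi]; exact K.inv_mem gx_mem
  have h2 : hw [2] ∈ K := by rw [hw_y]; exact gy_mem
  have h3 : hw [3] ∈ K := by rw [hw_yi]; exact K.inv_mem gy_mem
  unfold ex
  split
  · exact h0
  · exact h1
  · exact h2
  · exact h3
  · exact (conj_mem h0 :)
  · exact (conj_mem h1 :)
  · exact (conj_mem h2 :)
  · exact (conj_mem h3 :)
  · rw [hw_nil]; exact K.one_mem

/-- expansion of a word -/
def exW (u : List ℕ) : List ℕ := u.flatMap ex

theorem mem_exW (u : List ℕ) : hw (exW u) ∈ K := by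
  induction u with
  | nil => rw [exW, List.flatMap_nil, hw_nil]; exact K.one_mem
  | cons l u ih =>
    have h : exW (l :: u) = ex l ++ exW u := List.flatMap_cons
    rw [h, hw_append]
    exact K.mul_mem (mem_ex l) ih

/-- the words -/
noncomputable def wd : Wd K where
  W := fun u => ⟨hw (exW u), mem_exW u⟩
  nil := Subtype.ext hw_nil
  app := by
    intro u v
    apply Subtype.ext
    change hw (exW (u ++ v)) = hw (exW u) * hw (exW v)
    rw [← hw_append]
    congr 1
    exact List.flatMap_append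
  eq := fun u v => eqw (exW u) (exW v)
  eq_sound := fun h => Subtype.ext (hw_eq h)
  ne := fun u => okw (exW u) && !(Nat.beq (_root_.Cfsg.Agent.HN.P1408.tr (exW u) 0) 0)
  ne_sound := by
    intro u h h1
    rw [Bool.and_eq_true] at h
    have h2 : hw (exW u) ≠ hw [] := hw_ne (p := 0) h.1 rfl (by norm_num) (by
      rw [tr_nil]
      intro h3
      rw [h3] at h
      exact absurd h.2 (by decide))
    exact h2 (by rw [hw_nil]; exact congrArg Subtype.val h1)

/-- generators of `E` -/
def xW : List (List ℕ) := [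
  [3, 3, 0, 3, 0, 2, 0, 2, 0, 3, 0, 3, 1, 2, 4, 6, 4, 6, 4],
  [0, 2, 2, 2, 6, 6, 6, 4, 2, 2, 1, 3, 3, 0, 3, 0, 2, 2, 2],
  [6, 2, 0, 2, 0, 2, 2, 2, 7, 3, 3, 0, 7, 3, 0, 3, 3],
  [0, 0]]
/-- elements of the normaliser of `E` -/
def sW : List (List ℕ) := [
  [],
  [2, 0, 7, 4, 7, 7, 4, 6, 2, 1],
  [7, 7, 4, 6, 4, 6, 5, 6, 2, 7, 3],
  [7, 7, 4, 6, 6, 4, 6, 4, 3],
  [0, 2, 2, 0, 6, 6, 6, 4, 6, 5, 7],
  [0, 3, 3, 6, 6, 2, 0, 6, 5, 3, 3],
  [2, 0, 2, 0, 3, 0, 3, 3, 0, 6, 2, 2, 1, 3, 3, 0, 2, 0],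
  [7, 4, 6, 5, 6, 2, 7, 3],
  [3, 0, 3, 0, 2, 6, 6, 6, 4, 3, 3],
  [2, 2, 0, 7, 7, 3, 3, 6, 6],
  [2, 0, 7, 4, 7, 7, 2, 2, 0],
  [3, 3, 0, 3, 6, 6, 3, 0],
  [7, 7, 4, 2, 0, 2, 0],
  [2, 2, 0, 7, 7, 3, 0, 3, 0, 2, 2, 0],
  [3, 0, 3, 3, 6, 5, 2, 2, 7, 3],
  [7, 3, 6, 6, 4, 6, 5, 3]]
/-- their action -/
def aM : List (List (List ℕ)) := [
  [[1, 0, 0, 0], [0, 1, 0, 0], [0, 0, 1, 0], [0, 0, 0, 1]],
  [[2, 2, 3, 1], [0, 1, 0, 0], [3, 0, 1, 1], [0, 0, 0, 1]],
  [[1, 1, 1, 0], [3, 3, 0, 1], [3, 2, 2, 0], [0, 0, 0, 1]],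
  [[1, 2, 1, 0], [3, 1, 3, 1], [0, 0, 3, 1], [0, 0, 0, 1]],
  [[2, 3, 1, 1], [1, 2, 2, 0], [3, 0, 1, 1], [0, 0, 0, 1]],
  [[0, 1, 1, 1], [3, 3, 0, 1], [0, 0, 1, 0], [0, 0, 0, 1]],
  [[1, 3, 2, 1], [0, 3, 0, 1], [1, 3, 1, 1], [0, 0, 0, 1]],
  [[3, 3, 1, 1], [1, 1, 0, 0], [3, 0, 1, 1], [0, 0, 0, 1]],
  [[1, 0, 2, 0], [0, 0, 1, 1], [2, 3, 3, 0], [0, 0, 0, 1]],
  [[2, 1, 0, 0], [1, 0, 3, 1], [0, 0, 3, 1], [0, 0, 0, 1]],
  [[3, 1, 0, 0], [3, 0, 1, 0], [0, 0, 1, 0], [0, 0, 0, 1]],
  [[2, 2, 1, 1], [2, 3, 3, 1], [1, 0, 3, 0], [0, 0, 0, 1]],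
  [[3, 3, 3, 0], [0, 0, 1, 1], [1, 2, 2, 1], [0, 0, 0, 1]],
  [[1, 0, 1, 1], [0, 3, 0, 1], [2, 1, 1, 1], [0, 0, 0, 1]],
  [[2, 3, 1, 0], [1, 1, 0, 0], [3, 2, 2, 0], [0, 0, 0, 1]],
  [[0, 1, 3, 1], [0, 3, 0, 1], [3, 2, 2, 0], [0, 0, 0, 1]]]

theorem orb_K : Orb 2 13 K :=
  wd.orb_pow (r := 2) (κ := 2) (d := 4) (M := 16) (m := 13) (X := xW) (R := [[0, 0, 0, 2]]) (S := sW) (Al := aM)
    (c₀ := [2, 0, 0, 0]) (by norm_num) (by decide +kernel)

/-- **Nonsplit double covers of `HS` have degree at least 13.** -/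
theorem le_of_double {F : Type u} [Field F] [Finite F] (h2 : (2 : F) ≠ 0) {n : ℕ} {P : Subgroup (GL (Fin n) F)}
    (hC : Core P) (e : Soc P ≃* Cfsg.Spor.HS) (hcard : Nat.card ((Cfsg.Geo.scalars (Fin n) F).subgroupOf P) = 2) :
    13 ≤ n := by
  classical
  have hcen : Subgroup.center P = (Cfsg.Geo.scalars (Fin n) F).subgroupOf P := by
    apply le_antisymm _ scalars_le_center
    intro z hz
    have hs := hC.simple
    have h1 : toSoc P z ∈ Subgroup.center (Soc P) := by
      rw [Subgroup.mem_center_iff]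
      intro y
      obtain ⟨y, rfl⟩ := toSoc_surjective P y
      rw [← map_mul, ← map_mul, Subgroup.mem_center_iff.1 hz y]
    have h2 : Subgroup.center (Soc P) = ⊥ := by
      rcases hs.eq_bot_or_eq_top_of_normal (Subgroup.center (Soc P)) inferInstance with h | h
      · exact h
      · exfalso
        apply hC.nonabelian
        exact ⟨⟨fun a b => by
          have := Subgroup.mem_center_iff.1 (show b ∈ Subgroup.center (Soc P) by rw [h]; trivial) a
          exact this⟩⟩
    rw [h2, Subgroup.mem_bot] at h1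
    rw [← ker_toSoc, MonoidHom.mem_ker]
    exact h1
  have hcov : Cfsg.IsNonsplitDoubleCover P Cfsg.Spor.HS := by
    refine ⟨by rw [hcen, hcard], ⟨(QuotientGroup.quotientMulEquivOfEq hcen).trans e⟩, ?_⟩
    intro L hL
    -- a complement has index 2
    have hi : L.index = 2 := by
      rw [← hL.symm.card_right, hcen]
      exact hcard
    have hn : L.Normal := Subgroup.normal_of_index_eq_two hi
    have hle : commutator P ≤ L := by
      have hcomm : IsMulCommutative (P ⧸ L) := by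
        have hc2 : Nat.card (P ⧸ L) = 2 := hi
        have : IsCyclic (P ⧸ L) := isCyclic_of_prime_card hc2
        exact ⟨⟨fun a b => (IsCyclic.commGroup (α := P ⧸ L)).mul_comm a b⟩⟩
      exact (Subgroup.Normal.quotient_commutative_iff_commutator_le (N := L)).1 hcomm
    rw [hC.commutator_top] at hle
    have h3 : L = ⊤ := top_le_iff.1 hle
    rw [h3, Subgroup.index_top] at hi
    omega
  obtain ⟨f⟩ := Cfsg.Agent.HN.CoverUnique.equiv_K hcov
  have hb : Bd F 2 13 K := orb_K.bd (by norm_num) (by exact_mod_cast h2)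
  refine hb n ⟨P, inferInstance, f.toMonoidHom, P.subtype, f.surjective, ?_, ?_, ?_⟩
  · intro x hx y
    have : x = 1 := f.injective (by rw [map_one]; exact hx)
    rw [this, one_mul, mul_one]
  · have : (f.toMonoidHom).ker = ⊥ := (MonoidHom.ker_eq_bot_iff _).2 f.injective
    rw [this, Subgroup.card_bot]
    exact Nat.coprime_one_left 2
  · rw [Subgroup.ker_subtype]
    exact bot_le

end Cfsg.Agent.H489.Deg.HS2
end

-- part: H489/DegHN
section
/-!
# The Harada–Norton group has no projective representations of degree at most 12 (helper489)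

Everything happens in the subgroup `2.HS` of the centraliser `2.HS.2` of an involution. Odd characteristic: the
configuration of `DegHS2`. Characteristic 2: a group `5^(1+2)` with the normaliser of order 4 of its centre.
-/

set_option autoImplicit false
set_option maxRecDepth 100000

universe u v

namespace Cfsg.Agent.H489.Deg.HN

open Cfsg Cfsg.Agent.HN.HS100 Cfsg.Agent.HN.H0Basic
open Cfsg.Agent.H912.Bd Cfsg.Agent.H921.Spor Cfsg.Agent.H915.LD
open Matrix (GeneralLinearGroup)

/-- the embedding of `2.HS` -/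
noncomputable def emb : K →* Cfsg.Spor.HN := Cfsg.Agent.HN.NormalH.ψ.comp K.subtype

theorem emb_injective : Function.Injective emb :=
  Cfsg.Agent.HN.TwoClasses.ψ_inj.comp K.subtype_injective

theorem hn_two : Orb 2 13 Cfsg.Spor.HN := HS2.orb_K.of_inj emb emb_injective

theorem hn_five {F : Type u} [Field F] (h5 : ((5 : ℕ) : F) ≠ 0) : Bd F 5 (4 * 5) Cfsg.Spor.HN :=
  (HS2.wd.bd_ext (r := 5) (k := 2)
    (a := [0, 3, 0, 2, 0, 7, 7, 4, 7, 7, 4, 7, 5, 3, 0])
    (b := [0, 7, 3, 3, 7, 4, 6, 6])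
    (z := [3, 0, 7, 5, 6, 6, 2, 2, 7, 7, 3, 0, 3, 7, 3, 0])
    (y := [2, 0, 2, 2, 6, 6, 2, 0, 2, 0, 2, 2, 2])
    4 (by norm_num) h5 (by decide +kernel) (by decide)).of_sub emb emb_injective

/-- **The Harada–Norton group: degree at least 13.** -/
theorem hn_le {p : ℕ} (hp : p.Prime) {F : Type u} [Field F] [Finite F] [CharP F p] {n : ℕ}
    {P : Subgroup (GL (Fin n) F)} (hC : Core P) (e : Soc P ≃* Cfsg.Spor.HN) : 13 ≤ n := by
  by_cases h2 : p = 2
  · have h := le_of_bd hC e Cfsg.Agent.S2056.result (r := 5) (by norm_num)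
      (hn_five (F := F) (cast_ne (F := F) hp (by norm_num : (5 : ℕ).Prime) (by omega)))
    omega
  · exact le_of_bd hC e Cfsg.Agent.S2056.result (r := 2) (by norm_num)
      (hn_two.bd (F := F) (by norm_num) (cast_ne (F := F) hp Nat.prime_two h2))

end Cfsg.Agent.H489.Deg.HN
end

private theorem dce_edf48d18212a : _root_.True := by
  try have : _root_.True := by simp only [_root_.Cfsg.Agent.H489.Deg.HS2.exW.eq_1]
  exact _root_.True.intro
end

-- part: H489/DegLy
section
prune_inst 0x301001006422000000000000120000402400000200230001b1400242034c014380400f00720012100100222000088000000000490010000000000600400400000080000030000000000006809802000000000000000000000000000000000000000000000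
set_option linter.all false
open scoped Cfsg.Agent.FastGrp

/-!
# The Lyons group has no projective representations of degree at most 19 (helper489)

Characteristic not 5: a group `5^(1+2)` in `G₂(5)` with four conjugates of a generator of its centre in it.
Characteristic 5: `3⁵ : (11 × 2)` acts freely on the characters of `3⁵`.
-/

set_option autoImplicit false
set_option maxRecDepth 100000

universe u v

namespace Cfsg.Agent.H489.Deg.Ly

open Cfsg
open Cfsg.Agent.Ly.Mat7 Cfsg.Agent.Ly.Cover Cfsg.Agent.Ly.Upper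
open Cfsg.Agent.H912.Bd Cfsg.Agent.H921.Spor Cfsg.Agent.H915.LD
open Matrix (GeneralLinearGroup)

/-- the words in `G₂(5)` -/
noncomputable def wd : Wd Hhat where
  W := fun u => ev Data.hgen u
  nil := ev_nil _
  app := fun u v => ev_append _ u v
  eq := eqW
  eq_sound := fun h => Subtype.ext (by rw [Data.coe_ev, Data.coe_ev]; exact word_eq h)
  ne := fun u => !(eqW u [])
  ne_sound := by
    intro u h h1
    have h2 : (ev gen u : GL (Fin 7) (ZMod 5)) = 1 := by
      rw [← Data.coe_ev, h1]; rfl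
    have h3 := evalK_spec u oneN_ok
    have h4 : toM (evalK u oneN) = toM oneN := by rw [h3.2, h2, Units.val_one, Matrix.mul_one]
    have h5 : evalK u oneN = oneN := toM_inj h3.1 oneN_ok h4
    have h6 : eqW u [] = true := by
      unfold eqW
      rw [h5]
      exact Nat.beq_refl _
    rw [h6] at h
    exact absurd h (by decide)

theorem ly_five {F : Type u} [Field F] (h5 : ((5 : ℕ) : F) ≠ 0) : Bd F 5 (4 * 5) Cfsg.Spor.Ly :=
  (wd.bd_ext (r := 5) (a := [2]) (b := [4, 2, 0]) (z := [2, 4, 2, 0, 6, 4, 6, 0]) (y := [0]) (k := 3) 4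
    (by norm_num) h5 (by decide +kernel) (by decide)).of_sub Cfsg.Agent.Ly.Setup.psi
    Cfsg.Agent.Ly.Setup.psi_injective

section three

open Cfsg.Agent.H51.LyThree Cfsg.Agent.H51.LyThreeData

theorem e_pow (k : ℕ) : e (k + 1) = g⁻¹ * e k * g := rfl

theorem e3 (k : ℕ) : e k ^ 3 = 1 := by
  induction k with
  | zero => exact pow_three_eq (rel_one (.cons h0 <| .cons h0 <| .cons h0 .nil) ordE)
  | succ k ih =>
    have h : e (k + 1) = g⁻¹ * e k * (g⁻¹)⁻¹ := by rw [inv_inv]; rfl
    rw [h, conj_pow, ih]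
    group

theorem comm0 {k : ℕ} (hk1 : 1 ≤ k) (hk4 : k ≤ 4) : e 0 * e k = e k * e 0 := by
  interval_cases k
  · exact comm_eq (rel (.cons h0 <| .cons h1 .nil) (.cons h1 <| .cons h0 .nil) comE1)
  · exact comm_eq (rel (.cons h0 <| .cons h2 .nil) (.cons h2 <| .cons h0 .nil) comE2)
  · exact comm_eq (rel (.cons h0 <| .cons h3 .nil) (.cons h3 <| .cons h0 .nil) comE3)
  · exact comm_eq (rel (.cons h0 <| .cons h4 .nil) (.cons h4 <| .cons h0 .nil) comE4)

theorem comm' (i j : ℕ) (hj : j ≤ 4) : e i * e (i + j) = e (i + j) * e i := by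
  induction i with
  | zero =>
    rcases Nat.eq_zero_or_pos j with rfl | h
    · rfl
    · rw [zero_add]; exact comm0 h hj
  | succ i ih =>
    rw [show i + 1 + j = (i + j) + 1 by omega, e_pow, e_pow]
    calc g⁻¹ * e i * g * (g⁻¹ * e (i + j) * g) = g⁻¹ * (e i * e (i + j)) * g := by group
      _ = g⁻¹ * (e (i + j) * e i) * g := by rw [ih]
      _ = _ := by group

/-- the commuting elements -/
noncomputable def x (i : ℕ) : Cfsg.Spor.Ly := if i < 5 then e i else 1

theorem x_comm (i j : ℕ) : x i * x j = x j * x i := by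
  unfold x
  split_ifs with h1 h2
  · rcases le_total i j with h | h
    · have := comm' i (j - i) (by omega)
      rwa [show i + (j - i) = j by omega] at this
    · have := comm' j (i - j) (by omega)
      rw [show j + (i - j) = i by omega] at this
      exact this.symm
  · rw [mul_one, one_mul]
  · rw [mul_one, one_mul]
  · rfl

theorem e_five : e 5 = e 0 * e 1 * e 2 ^ 2 * e 3 := by
  have := rel (.cons h5 .nil) (.cons h0 <| .cons h1 <| .cons h2 <| .cons h2 <| .cons h3 .nil) recE
  simpa [mul_assoc, pow_two] using this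

theorem t_inv (k : ℕ) : t * e k * t⁻¹ = e k ^ 2 := by
  have hx : e 0 * t * e 0 = t := by
    have := rel (.cons h0 <| .cons ht <| .cons h0 .nil) (.cons ht .nil) invE
    simpa [mul_assoc] using this
  have hi : ∀ k, e k ^ 2 = (e k)⁻¹ := fun k => by
    rw [eq_inv_iff_mul_eq_one, ← pow_succ]; exact e3 k
  have htg : t * g = g * t := comm_eq (rel (.cons ht <| .cons hg .nil) (.cons hg <| .cons ht .nil) comTG)
  rw [hi]
  induction k with
  | zero =>
    calc t * e 0 * t⁻¹ = (e 0)⁻¹ * (e 0 * t * e 0) * t⁻¹ := by group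
      _ = (e 0)⁻¹ := by rw [hx, mul_inv_cancel_right]
  | succ k ih =>
    have h1 : t * g⁻¹ = g⁻¹ * t := by
      calc t * g⁻¹ = g⁻¹ * (g * t) * g⁻¹ := by group
        _ = g⁻¹ * (t * g) * g⁻¹ := by rw [htg]
        _ = g⁻¹ * t := by group
    rw [e_pow]
    calc t * (g⁻¹ * e k * g) * t⁻¹ = (t * g⁻¹) * e k * (t * g⁻¹)⁻¹ := by group
      _ = (g⁻¹ * t) * e k * (g⁻¹ * t)⁻¹ := by rw [h1]
      _ = g⁻¹ * (t * e k * t⁻¹) * g := by group
      _ = g⁻¹ * (e k)⁻¹ * g := by rw [ih]
      _ = (g⁻¹ * e k * g)⁻¹ := by group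

theorem e0_ne : e 0 ≠ 1 := by
  intro h
  apply e1_ne
  rw [e_pow, h]
  group

/-- matrices of `g⁻¹` and `t` -/
def B : List (List (List ℕ)) :=
  [[[0, 1, 0, 0, 0], [0, 0, 1, 0, 0], [0, 0, 0, 1, 0], [0, 0, 0, 0, 1], [1, 1, 2, 1, 0]],
   [[2, 0, 0, 0, 0], [0, 2, 0, 0, 0], [0, 0, 2, 0, 0], [0, 0, 0, 2, 0], [0, 0, 0, 0, 2]]]

/-- words -/
def S : List (List ℕ) := [[], [0], [0, 0], [0, 0, 0], [0, 0, 0, 0], [0, 0, 0, 0, 0], [0, 0, 0, 0, 0, 0],
  [1], [1, 0], [1, 0, 0], [1, 0, 0, 0], [1, 0, 0, 0, 0], [1, 0, 0, 0, 0, 0], [1, 0, 0, 0, 0, 0, 0]]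

theorem ly_three : Orb 3 14 Cfsg.Spor.Ly := by
  refine Orb.of_gen (T := Cfsg.Spor.Ly) (by norm_num) 5 14 (by norm_num) x (fun k => if k = 0 then g⁻¹ else t) ?_ ?_ x_comm
    [1, 0, 0, 0, 0] ?_ B ?_ ?_ S ?_ (by decide +kernel)
  · intro i
    unfold x
    split_ifs
    · exact e3 i
    · exact one_pow 3
  · intro i hi
    unfold x
    rw [if_neg (by omega)]
  · have : pv x 0 [1, 0, 0, 0, 0] = e 0 := by
      simp [pv, x]
    rw [this]
    exact e0_ne
  · intro b hb
    have : ∀ b ∈ B, b.length = 5 ∧ ∀ c ∈ b, c.length = 5 := by decide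
    exact this b hb
  · intro k hk i hi
    have hB : B.length = 2 := rfl
    rw [hB] at hk
    interval_cases k
    · rw [if_pos rfl, inv_inv]
      interval_cases i
      · show g⁻¹ * e 0 * g = pv x 0 [0, 1, 0, 0, 0]
        rw [← e_pow]; simp [pv, x]
      · show g⁻¹ * e 1 * g = pv x 0 [0, 0, 1, 0, 0]
        rw [← e_pow]; simp [pv, x]
      · show g⁻¹ * e 2 * g = pv x 0 [0, 0, 0, 1, 0]
        rw [← e_pow]; simp [pv, x]
      · show g⁻¹ * e 3 * g = pv x 0 [0, 0, 0, 0, 1]
        rw [← e_pow]; simp [pv, x]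
      · show g⁻¹ * e 4 * g = pv x 0 [1, 1, 2, 1, 0]
        rw [← e_pow, e_five]; simp [pv, x, mul_assoc]
    · rw [if_neg (by norm_num)]
      interval_cases i
      · show t * e 0 * t⁻¹ = pv x 0 [2, 0, 0, 0, 0]
        rw [t_inv]; simp [pv, x]
      · show t * e 1 * t⁻¹ = pv x 0 [0, 2, 0, 0, 0]
        rw [t_inv]; simp [pv, x]
      · show t * e 2 * t⁻¹ = pv x 0 [0, 0, 2, 0, 0]
        rw [t_inv]; simp [pv, x]
      · show t * e 3 * t⁻¹ = pv x 0 [0, 0, 0, 2, 0]
        rw [t_inv]; simp [pv, x]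
      · show t * e 4 * t⁻¹ = pv x 0 [0, 0, 0, 0, 2]
        rw [t_inv]; simp [pv, x]
  · decide

end three

/-- **The Lyons group: degree at least 14.** -/
theorem ly_le {p : ℕ} (hp : p.Prime) {F : Type u} [Field F] [Finite F] [CharP F p] {n : ℕ}
    {P : Subgroup (GL (Fin n) F)} (hC : Core P) (e : Soc P ≃* Cfsg.Spor.Ly) : 14 ≤ n := by
  by_cases h5 : p = 5
  · exact le_of_bd hC e Cfsg.Agent.S2050.result (r := 3) (by norm_num)
      (ly_three.bd (F := F) (by norm_num) (cast_ne (F := F) hp (by norm_num : (3 : ℕ).Prime) (by omega)))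
  · have h := le_of_bd hC e Cfsg.Agent.S2050.result (r := 5) (by norm_num)
      (ly_five (F := F) (cast_ne (F := F) hp (by norm_num : (5 : ℕ).Prime) h5))
    omega

end Cfsg.Agent.H489.Deg.Ly

private theorem dce_6759f9e94079 : _root_.True := by
  try have : _root_.True := by simp only [_root_.Cfsg.Agent.H489.Deg.Ly.x.eq_1]
  exact _root_.True.intro
end

-- part: H489/DegTh
section
set_option linter.all false
open scoped Cfsg.Agent.FastGrp

/-!
# The Thompson group has no projective representations of degree at most 12 (helper489)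

Both configurations are in `³D₄(2) : 3` (words, checked in its representation of degree 819). Characteristic not 7: `7²`
with orbits of length 24. Characteristic 7: an elementary abelian subgroup `2⁵` of `2^(1+8)`.
-/

set_option autoImplicit false
set_option maxRecDepth 100000

universe u v

namespace Cfsg.Agent.H489.Deg.Th

open Cfsg
open Cfsg.Agent.Th.Word Cfsg.Agent.Th.KOracle Cfsg.Agent.Th.KPerm Cfsg.Agent.Th.PermTab Cfsg.Agent.Th.RelWords
open Cfsg.Agent.Th.IndexUpper (gTh gTh_inv gTh_relK)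
open Cfsg.Agent.H912.Bd Cfsg.Agent.H921.Spor Cfsg.Agent.H915.LD
open Matrix (GeneralLinearGroup)

/-- a word which moves the point 0, 1 or 39 is not trivial -/
theorem ne_of {u : List ℕ} (hu : allL isK u = true) {p : ℕ} (hp : p < 819) (h : tr act u p ≠ p) : ev gTh u ≠ 1 := by
  intro h1
  have hu' := (allL_iff _ _).1 hu
  obtain ⟨φ, hφ, hφ2⟩ := exists_hom (γ := gTh) gTh_inv gTh_relK Cfsg.Agent.Th.Main1700.final.2.2.1
  have h2 := hφ2 u hu'
  have h3 : (⟨ev gTh u, ev_mem_sub hu'⟩ : sub gTh isK) = 1 := Subtype.ext h1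
  rw [h3, map_one] at h2
  have h4 := ev_rho_inv_apply isTab hu' ⟨p, hp⟩
  rw [← h2, inv_one] at h4
  exact h h4.symm

/-- the words -/
noncomputable def w : Wd Cfsg.Spor.Th where
  W := fun u => ev gTh u
  nil := ev_nil _
  app := fun u v => ev_append _ u v
  eq := fun u v => korc (u ++ iw v)
  eq_sound := by
    intro u v h
    have h1 := korc_sound boundK gTh_inv gTh_relK h
    rw [ev_append, ev_iw gTh_inv] at h1
    exact mul_inv_eq_one.1 h1
  ne := fun u => allL isK u && !(Nat.beq (tr act u 0) 0 && (Nat.beq (tr act u 1) 1 && Nat.beq (tr act u 39) 39))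
  ne_sound := by
    intro u h
    rw [Bool.and_eq_true] at h
    by_cases h0 : tr act u 0 = 0
    · by_cases h1 : tr act u 1 = 1
      · refine ne_of h.1 (p := 39) (by norm_num) ?_
        intro h2
        rw [h0, h1, h2] at h
        exact absurd h.2 (by decide)
      · exact ne_of h.1 (p := 1) (by norm_num) h1
    · exact ne_of h.1 (p := 0) (by norm_num) h0

theorem th_seven : Orb 7 13 Cfsg.Spor.Th :=
  w.orb_gen (r := 7) (d := 2) (m := 13)
    (X := [[6, 6], [2, 3, 4, 3, 4]])
    (G := [[8], [2, 4], [1, 2, 1, 3],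
      [3, 5, 4, 7, 5, 4, 3, 2, 4, 3, 7, 5, 4, 3, 6, 5, 4, 2, 3, 5, 4, 3, 6, 5, 6, 8]])
    (B := [[[4, 0], [0, 1]], [[6, 0], [0, 6]], [[1, 0], [0, 4]], [[5, 1], [2, 4]]])
    (S := [[], [1], [3, 2], [2, 3], [2, 0], [1, 0], [0, 0], [3, 3, 0], [3, 2, 3], [3, 0, 0], [0, 3, 0], [2, 3, 2, 1],
      [2, 3, 2, 0]]) (c₀ := [1, 0])
    (by norm_num) (by decide +kernel)

theorem th_two : Orb 2 16 Cfsg.Spor.Th :=
  w.orb_gen (r := 2) (d := 5) (m := 16)
    (X := [[1],
      [1, 7, 5, 4, 3, 4, 5, 6],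
      [3, 4, 3, 5, 7, 5, 4, 3, 4, 6, 5, 4, 3, 4, 7, 5, 6, 4],
      [2, 1, 3, 2, 7, 5, 4, 3, 4, 6, 5, 4, 3, 2, 4, 3, 7, 1, 2, 5, 6],
      [2, 1, 3, 2, 1, 4, 3, 4, 5, 4, 3, 2, 1, 4, 3, 2]])
    (G := [[5, 4, 3, 4, 5],
      [5, 4, 3, 4, 3, 5],
      [8, 7, 5, 4, 3, 4, 3, 5, 6, 9],
      [3, 6, 5, 4, 3, 4, 5, 7]])
    (B := [[[1, 0, 0, 0, 0], [1, 1, 0, 0, 0], [0, 0, 1, 0, 0], [0, 0, 0, 1, 0], [0, 0, 0, 0, 1]],
      [[1, 0, 0, 0, 0], [0, 1, 0, 0, 0], [1, 0, 1, 0, 0], [0, 0, 0, 1, 0], [0, 0, 0, 0, 1]],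
      [[1, 0, 0, 0, 0], [0, 1, 0, 0, 0], [0, 0, 1, 0, 0], [1, 0, 0, 1, 0], [0, 0, 0, 0, 1]],
      [[1, 0, 0, 0, 0], [0, 1, 0, 0, 0], [0, 0, 1, 0, 0], [0, 0, 0, 1, 0], [1, 0, 0, 0, 1]]])
    (S := [[], [0], [1], [2], [3], [0, 1], [0, 2], [0, 3], [1, 2], [1, 3], [2, 3], [0, 1, 2], [0, 1, 3], [0, 2, 3], [1, 2, 3], [0, 1, 2, 3]]) (c₀ := [1, 0, 0, 0, 0])
    (by norm_num) (by decide +kernel)

/-- **The Thompson group: degree at least 13.** -/
theorem th_le {p : ℕ} (hp : p.Prime) {F : Type u} [Field F] [Finite F] [CharP F p] {n : ℕ}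
    {P : Subgroup (GL (Fin n) F)} (hC : Core P) (e : Soc P ≃* Cfsg.Spor.Th) : 13 ≤ n := by
  by_cases h7 : p = 7
  · have h := le_of_bd hC e Cfsg.Agent.S2057.result (r := 2) (by norm_num)
      (th_two.bd (F := F) (by norm_num) (cast_ne (F := F) hp Nat.prime_two (by omega)))
    omega
  · exact le_of_bd hC e Cfsg.Agent.S2057.result (r := 7) (by norm_num)
      (th_seven.bd (F := F) (by norm_num) (cast_ne (F := F) hp (by norm_num : (7 : ℕ).Prime) h7))

end Cfsg.Agent.H489.Deg.Th
end
end
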