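import Cfsg.Agent.H806.LsFiTwo_m3
import Cfsg.Agent.H920.FiTwoMain
import Cfsg.Agent.H936.AltBig2
import Mathlib.RingTheory.RootsOfUnity.AlgebraicallyClosed
import Cfsg.Agent.H433.EP.LSn
import Cfsg.Agent.H906.Cover_m3
import Cfsg.Agent.H489.DegBase
import Cfsg.Agent.FastGrp
import Cfsg.Agent.Prune
set_option linter.all false

-- part: H806/LsThreeData
section
set_option linter.all false
open scoped Cfsg.Agent.FastGrp

/-!
# The bound `LS 3 16 T` from the affine Weyl group of type `E₆` with the spider relation: certificates (helper806)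
-/

set_option autoImplicit false
set_option maxRecDepth 100000

namespace Cfsg.Agent.H806.Ls.Three

open Cfsg.Agent.H921.Spor.Cox Cfsg.Agent.ChevalleyStructure.WeylData

/-- the reflection in the highest root -/
def th6 : List ℕ := [1, 3, 4, 2, 3, 0, 2, 1, 3, 4, 5, 4, 3, 2, 1, 3, 4, 0, 2, 3, 1]

/-- `bw` is the reflection in the difference of the highest root and the simple root `1` -/
def wb : List ℕ := [3, 4, 5, 2, 3, 4, 0, 2, 3]

def bw : List ℕ := wb ++ ([1] ++ wb.reverse)

/-- the words carrying the highest root to the simple roots -/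
def W : List (List ℕ) := [[2, 3, 4, 5, 1, 3, 4, 2, 3, 1], [3, 4, 5, 2, 3, 4, 0, 2, 3, 1], [3, 4, 5, 1, 3, 4, 0, 2, 3, 1], [4, 5, 2, 1, 3, 4, 0, 2, 3, 1], [5, 3, 2, 1, 3, 4, 0, 2, 3, 1], [4, 3, 2, 1, 3, 4, 0, 2, 3, 1]]

/-- `w' = w * l` with `l` in the stabiliser of the highest root -/
def same (w w' l : List ℕ) : Bool :=
  (l.all fun a => Nat.blt a 6 && !Nat.beq a 1) && eqW certE6 w' (w ++ l)

/-- adjacent pairs -/
def DA : List (ℕ × ℕ × List ℕ × List ℕ × List ℕ × List ℕ) := [(0, 2, [3, 4, 5, 1, 3, 4, 2, 3, 0, 2, 1, 3], [3, 2, 0], [3, 2, 0], [3, 2, 0]), (1, 3, [4, 5, 2, 3, 0, 2, 1, 3, 4, 3, 2, 1, 3], [3, 4, 2, 3], [3, 4, 2, 3], [3, 4, 2, 3]), (2, 0, [3, 2, 1, 3, 4, 5, 3, 2, 1, 3, 4, 3, 2, 1, 3], [3, 4, 5, 2, 3, 4], [3, 4, 5, 2, 3, 4], [3, 4, 5, 2, 3, 4]), (2, 3, [4, 5, 0, 2, 1, 3, 4, 2, 3, 0, 2, 1, 3], [3, 4, 2, 0], [3, 4, 2, 0], [3, 4, 2, 0]), (3, 1, [2, 3, 4, 5, 0, 2, 3, 4, 2, 3, 0, 2, 1, 3], [3, 4, 5, 2, 0], [3, 4, 5, 2, 0], [3, 4, 5, 2, 0]), (3, 2, [1, 3, 4, 5, 3, 0, 2,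 1, 3, 4, 3, 2, 1, 3], [3, 4, 5, 2, 3], [3, 4, 5, 2, 3], [3, 4, 5, 2, 3]), (3, 4, [5, 2, 3, 0, 2, 1, 3, 4, 2, 3, 0, 2, 1, 3], [3, 4, 2, 3, 0], [3, 4, 2, 3, 0], [3, 4, 2, 3, 0]), (4, 3, [2, 1, 3, 4, 5, 0, 2, 3, 4, 3, 2, 1, 3], [3, 4, 5, 2], [3, 4, 5, 2], [3, 4, 5, 2]), (4, 5, [3, 4, 2, 3, 0, 2, 1, 3, 4, 2, 3, 0, 2, 1, 3], [3, 4, 2, 3, 0, 2], [3, 4, 2, 3, 0, 2], [3, 4, 2, 3, 0, 2]), (5, 4, [3, 2, 1, 3, 4, 5, 0, 2, 3, 4, 1, 3], [3, 4, 5], [3, 4, 5], [3, 4, 5])]

/-- orthogonal pairs -/
def DO : List (ℕ × ℕ × List ℕ × List ℕ × List ℕ) := [(0, 1, [3, 2, 1, 3, 4, 5, 3, 2, 1, 3, 4, 3, 2, 1, 3, 0, 2, 1], [2, 3, 4, 5, 0, 2, 3, 4], [5, 0, 2, 3]), (0, 3, [2, 3, 4, 5, 3, 2, 1, 3, 4, 3, 2, 1, 3, 0, 2, 1], [2, 3, 4, 0, 2, 3], [5, 0, 2, 3]), (0, 4, [2, 3, 4, 5, 1, 3, 4, 3, 2, 1, 3, 0, 2, 1], [2, 3, 0, 2], [5, 0, 2, 3]), (0, 5, [2, 3, 4, 5, 1, 3, 4, 2, 3, 0, 2, 1], [2, 0], [5, 0, 2, 3]), (1, 2, [0, 2, 3, 4, 5, 2, 3, 0, 2, 1, 3, 4, 3, 2, 1, 3, 0, 2], [2, 3, 4, 5, 0, 2, 3, 4], [0, 2, 3, 4]),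 (1, 4, [3, 4, 5, 2, 3, 4, 0, 2, 3, 1], [], [5, 4, 3, 2]), (1, 5, [3, 4, 5, 2, 3, 4, 0, 2, 3, 0, 2, 1], [2, 0], [5, 4, 3, 2]), (2, 4, [3, 4, 5, 1, 3, 4, 3, 0, 2, 1, 3, 0, 2, 1], [2, 3, 0, 2], [5, 4, 0, 2]), (2, 5, [3, 4, 5, 1, 3, 4, 0, 2, 3, 0, 2, 1], [2, 0], [5, 4, 0, 2]), (3, 5, [4, 5, 2, 1, 3, 4, 0, 2, 3, 0, 2, 1], [2, 0], [5, 4, 3, 0])]

/-- `s_a` fixes the `i`-th simple root -/
def DC : List (ℕ × ℕ × List ℕ) := [(1, 0, [5]), (3, 0, [4]), (4, 0, [3]), (5, 0, [2]), (0, 1, [4]), (2, 1, [5]), (4, 1, [0]), (5, 1, [2]), (1, 2, [5]), (4, 2, [3]), (5, 2, [2]), (0, 3, [4]), (5, 3, [2]), (0, 4, [4]), (1, 4, [0]), (2, 4, [3]), (0, 5, [4]), (1, 5, [0]), (2, 5, [3]), (3, 5, [2])]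

theorem checkDA : (DA.all fun e => same (e.2.2.1 ++ bw) (W.getD e.1 []) e.2.2.2.1 &&
    (same (e.2.2.1 ++ [1]) (W.getD e.2.1 []) e.2.2.2.2.1 && same e.2.2.1 (e.2.1 :: W.getD e.1 []) e.2.2.2.2.2)) = true := by
  delta same; rw [eqW_eq]; decide +kernel

theorem checkDO : (DO.all fun e => same e.2.2.1 (W.getD e.1 []) e.2.2.2.1 &&
    same (e.2.2.1 ++ W.getD 0 []) (W.getD e.2.1 []) e.2.2.2.2) = true := by
  delta same; rw [eqW_eq]; decide +kernel

theorem checkDC : (DC.all fun e => same (W.getD e.2.1 []) (e.1 :: W.getD e.2.1 []) e.2.2) = true := by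
  delta same; rw [eqW_eq]; decide +kernel

theorem checkDD : ((List.range 6).all fun a => eqW certE6 (a :: W.getD a []) (W.getD a [] ++ th6)) = true := by
  rw [eqW_eq]; decide +kernel

/-- the words for the orthogonal pair -/
def wp : List ℕ := [2, 1, 3, 4, 5, 2, 1, 3, 4, 2, 3, 0, 2, 1, 3]
def v1 : List ℕ := [4, 5, 3, 4, 2, 3]
def v2 : List ℕ := [2, 1, 3, 4, 5, 2, 1, 3, 4, 0, 2, 3]

theorem check0 : same wp (W.getD 0 []) [3, 4, 5, 2, 0] = true := by
  delta same; rw [eqW_eq]; decide +kernel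
theorem check1 : same v1 [] [3, 4, 5, 2, 3, 4] = true := by
  delta same; rw [eqW_eq]; decide +kernel
theorem check2 : same (v1 ++ [1]) (wp ++ bw) [0, 2, 3] = true := by
  delta same; rw [eqW_eq]; decide +kernel
theorem check3 : same (v2 ++ bw) [] [3, 4, 5, 2, 3, 4, 0] = true := by
  delta same; rw [eqW_eq]; decide +kernel
theorem check4 : same (v2 ++ [1]) (wp ++ [1]) [0, 2, 3] = true := by
  delta same; rw [eqW_eq]; decide +kernel

theorem check_ss : eqW certE6 (th6 ++ th6) [] = true := by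
  rw [eqW_eq]; decide +kernel
theorem check_st : ([0, 2, 3, 4, 5].all fun a => eqW certE6 (a :: th6) (th6 ++ [a])) = true := by
  rw [eqW_eq]; decide +kernel
theorem check_aba : eqW certE6 th6 ([1] ++ (bw ++ [1])) = true := by
  rw [eqW_eq]; decide +kernel
theorem check_bab : eqW certE6 th6 (bw ++ ([1] ++ bw)) = true := by
  rw [eqW_eq]; decide +kernel

/-- the finite part of the spider word -/
def ws : List ℕ := [3, 2, 0, 3, 4, 5, 3, 1]

/-- the linear part of the spider -/
def xs : List ℕ := ws ++ th6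

theorem check_xs : eqW certE6 (rp xs 10) [] = true := by
  rw [eqW_eq]; decide +kernel

/-- `s_3 u s_3⁻¹ = u X_3 ^ e` for the factors of the tenth power of the spider -/
def SP : List (ℤ × List ℕ × List ℕ × List ℕ × List ℕ) := [(1, [4, 5, 2, 1, 3, 4, 0, 2, 1, 3], [2, 3, 4, 5, 2, 3, 4], [3], [2, 3, 4, 5, 2, 3, 4]), (0, [], [0, 2, 3, 4, 3, 2, 0], [], []), (0, [], [2], [], []), (0, [], [4, 5, 4], [], []), (1, [0, 2, 1, 3, 4, 5, 3, 0, 2, 1, 3, 4, 3, 0, 2, 1, 3, 1], [2, 3, 4, 5, 2, 3, 2], [3, 4, 5, 2, 3, 4, 0], [2, 3, 4, 5, 2, 3, 2]), (0, [], [3, 4, 3], [], []), (1, [0, 2, 1, 3, 4, 5, 3, 0, 2, 1, 3, 4, 3, 2, 1, 3, 1], [0, 2, 3, 4, 5, 2, 3, 4, 0, 2], [3, 4, 5, 2, 3, 4], [0, 2, 3, 4, 5, 2, 3, 4, 0, 2]), (-1, [2, 1, 3, 4, 5, 3, 0, 2, 1, 3, 4, 3, 0, 2, 1, 3, 1], [3, 4, 5, 3, 4, 0], [3, 4, 5, 2, 3, 0], [3, 4, 5, 3, 4, 0]), (1, [4, 5, 2, 3, 0, 2, 1, 3, 4, 3, 2, 1, 3], [4, 5, 2, 3, 0, 2], [3, 4, 2, 3], [4, 5, 2, 3, 0, 2]), (0, [], [3], [], [])]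

def chkSP (k : ℕ) (e : ℤ × List ℕ × List ℕ × List ℕ × List ℕ) : Bool :=
  if e.1 = 0 then same (rp xs k ++ ws) (3 :: (rp xs k ++ ws)) e.2.2.1 else
  if e.1 = 1 then same (e.2.1 ++ bw) (rp xs k ++ ws) e.2.2.1 && (same (e.2.1 ++ [1]) (W.getD 3 []) e.2.2.2.1 &&
    same e.2.1 (3 :: (rp xs k ++ ws)) e.2.2.2.2) else
  e.1 == -1 && (same (e.2.1 ++ bw) (3 :: (rp xs k ++ ws)) e.2.2.1 && (same (e.2.1 ++ [1]) (W.getD 3 []) e.2.2.2.1 &&
    same e.2.1 (rp xs k ++ ws) e.2.2.2.2))

theorem checkSP : ((List.range 10).all fun k => chkSP k (SP.getD k (0, [], [], [], []))) = true := by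
  delta chkSP same; rw [eqW_eq]; decide +kernel

theorem sumSP : ((List.range 10).map fun k => (SP.getD k (0, [], [], [], [])).1).sum = 3 := by decide

/-! ### Labels: six digits in base 4 -/

/-- digit -/
def dg (m i : ℕ) : ℕ := (m / 4 ^ i) % 4

/-- adjacency -/
def adj (i j : ℕ) : Bool := [[2], [3], [0, 3], [1, 2, 4], [3, 5], [4]].getD i [] |>.contains j

/-- add `x` modulo 3 to the digit `j` -/
def ad (x m j : ℕ) : ℕ := m - dg m j * 4 ^ j + ((dg m j + x) % 3) * 4 ^ j

/-- the action on labels -/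
def step (m a : ℕ) : ℕ :=
  let x := dg m a
  ([[2], [3], [0, 3], [1, 2, 4], [3, 5], [4]].getD a []).foldl (ad x) (ad x m a)

/-- valid labels -/
def valid (m : ℕ) : Bool := (List.range 6).all fun i => Nat.blt (dg m i) 3

/-- insertion of a new label -/
def ins (x : ℕ) (p : List ℕ × List ℕ) (a : ℕ) : List ℕ × List ℕ :=
  let y := step x a
  if p.1.any fun z => Nat.beq z y then p else (y :: p.1, p.2 ++ [y])

/-- breadth first search -/
def bfs : ℕ → List ℕ × List ℕ → List ℕ
  | 0, p => p.1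
  | k + 1, p => if Nat.ble 16 p.1.length then p.1 else
    match p.2 with
    | [] => p.1
    | x :: q => bfs k ((List.range 6).foldl (ins x) (p.1, q))

private noncomputable def frc {β : Type} (x : ℕ) (f : ℕ → β) : β := Nat.rec (f 0) (fun n _ => f (Nat.succ n)) x

private theorem frc_eq {β : Type} (x : ℕ) (f : ℕ → β) : frc x f = f x := by cases x <;> rfl

private noncomputable def anyF (y : ℕ) (s : List ℕ) : Bool :=
  List.rec false (fun z _ ih => Bool.rec ih true (Nat.beq z y)) s

private theorem anyF_eq (y : ℕ) (s : List ℕ) : anyF y s = s.any fun z => Nat.beq z y := by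
  induction s with
  | nil => rfl
  | cons z s ih =>
    show Bool.rec (anyF y s) true (Nat.beq z y) = (Nat.beq z y || s.any fun z => Nat.beq z y)
    rw [ih]
    cases Nat.beq z y <;> rfl

private noncomputable def snoc (q : List ℕ) (y : ℕ) : List ℕ := List.rec [y] (fun a _ ih => a :: ih) q

private theorem snoc_eq (q : List ℕ) (y : ℕ) : snoc q y = q ++ [y] := by
  induction q with
  | nil => rfl
  | cons a q ih => exact congrArg (List.cons a) ih

private noncomputable def insF (x : ℕ) (L : List ℕ) (κ : List ℕ → List ℕ → ℕ → Bool) : List ℕ → List ℕ → ℕ → Bool :=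
  List.rec κ (fun a _ ih s q n => frc (step x a) fun y =>
    cond (anyF y s) (ih s q n) (ih (y :: s) (snoc q y) (Nat.succ n))) L

private theorem insF_spec (x : ℕ) (L : List ℕ) (κ : List ℕ → List ℕ → ℕ → Bool) (s q : List ℕ)
    (h1 : Cfsg.Agent.H921.Spor.cnt s = s.length) (h : insF x L κ s q s.length = true) :
    Cfsg.Agent.H921.Spor.cnt (L.foldl (ins x) (s, q)).1 = (L.foldl (ins x) (s, q)).1.length ∧
      κ (L.foldl (ins x) (s, q)).1 (L.foldl (ins x) (s, q)).2 (L.foldl (ins x) (s, q)).1.length = true := by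
  induction L generalizing s q with
  | nil => exact ⟨h1, h⟩
  | cons a L ih =>
    have h2 : cond (anyF (step x a) s) (insF x L κ s q s.length)
        (insF x L κ (step x a :: s) (snoc q (step x a)) (Nat.succ s.length)) = true :=
      (frc_eq (step x a) fun y => cond (anyF y s) (insF x L κ s q s.length)
        (insF x L κ (y :: s) (snoc q y) (Nat.succ s.length))).symm.trans h
    have h3 : ins x (s, q) a =
      if (s.any fun z => Nat.beq z (step x a)) = true then (s, q) else (step x a :: s, q ++ [step x a]) := rfl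
    rw [anyF_eq, snoc_eq] at h2
    rw [List.foldl_cons, h3]
    generalize step x a = y at h2 ⊢
    cases h4 : s.any fun z => Nat.beq z y with
    | true =>
      rw [h4] at h2
      exact ih s q h1 h2
    | false =>
      rw [h4] at h2
      refine ih (y :: s) (q ++ [y]) ?_ h2
      show (if (s.any fun b => Nat.beq y b) = true then Cfsg.Agent.H921.Spor.cnt s else
        Cfsg.Agent.H921.Spor.cnt s + 1) = s.length + 1
      rw [if_neg, h1]
      rw [List.any_eq_false] at h4
      rw [List.any_eq_true]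
      rintro ⟨b, hb, h5⟩
      rw [Nat.beq_eq] at h5
      exact h4 b hb (by rw [h5, Nat.beq_refl])

private noncomputable def bfsF (k : ℕ) : List ℕ → List ℕ → ℕ → Bool :=
  Nat.rec (fun _ _ n => Nat.ble 16 n) (fun _ ih s q n => Bool.rec
    (List.rec false (fun x q' _ => insF x [0, 1, 2, 3, 4, 5] ih s q' n) q) true (Nat.ble 16 n)) k

private theorem bfsF_spec (k : ℕ) (s q : List ℕ) (h1 : Cfsg.Agent.H921.Spor.cnt s = s.length)
    (h : bfsF k s q s.length = true) : Nat.ble 16 (Cfsg.Agent.H921.Spor.cnt (bfs k (s, q))) = true := by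
  induction k generalizing s q with
  | zero =>
    have h2 : Nat.ble 16 s.length = true := h
    have h3 : bfs 0 (s, q) = s := rfl
    rw [h3, h1, h2]
  | succ k ih =>
    have h2 : (Bool.rec (List.rec false (fun x q' _ => insF x [0, 1, 2, 3, 4, 5] (bfsF k) s q' s.length) q) true
      (Nat.ble 16 s.length) : Bool) = true := h
    cases h3 : Nat.ble 16 s.length with
    | true =>
      have h4 : bfs (k + 1) (s, q) = s := if_pos h3
      rw [h4, h1, h3]
    | false =>
      rw [h3] at h2
      cases q with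
      | nil => cases h2
      | cons x q =>
        have h4 : bfs (k + 1) (s, x :: q) = bfs k ([0, 1, 2, 3, 4, 5].foldl (ins x) (s, q)) :=
          if_neg (ne_true_of_eq_false h3)
        obtain ⟨h5, h6⟩ := insF_spec x _ _ s q h1 h2
        rw [h4]
        generalize [0, 1, 2, 3, 4, 5].foldl (ins x) (s, q) = p at h5 h6 ⊢
        exact ih p.1 p.2 h5 h6

private theorem both : ((List.range 4096).all fun m => frc m fun m => !valid m ||
    (([0, 1, 2, 3, 4, 5].all fun a => frc (step m a) fun y => Nat.blt y 4096 &&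
      [0, 1, 2, 3, 4, 5].all fun i => Nat.beq (dg y i)
        (if i = a then (dg m a + dg m a) % 3 else if adj i a then (dg m i + dg m a) % 3 else dg m i)) &&
    (Nat.beq m 0 || bfsF 40 [m] [m] 1))) = true := by decide +kernel

theorem check_step : ((List.range 4096).all fun m => !valid m || (List.range 6).all fun a =>
    Nat.blt (step m a) 4096 && (List.range 6).all fun i => Nat.beq (dg (step m a) i)
      (if i = a then (dg m a + dg m a) % 3 else if adj i a then (dg m i + dg m a) % 3 else dg m i)) = true := by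
  have h := both
  simp only [frc_eq] at h
  rw [List.all_eq_true] at h ⊢
  intro m hm
  have h1 := h m hm
  rw [Bool.or_eq_true, Bool.and_eq_true] at h1
  rw [Bool.or_eq_true]
  exact h1.imp id fun h2 => h2.1

theorem check_orb : ((List.range 4096).all fun m => !valid m || Nat.beq m 0 ||
    Nat.ble 16 (Cfsg.Agent.H921.Spor.cnt (bfs 40 ([m], [m])))) = true := by
  have h := both
  simp only [frc_eq] at h
  rw [List.all_eq_true] at h ⊢
  intro m hm
  have h1 := h m hm
  rw [Bool.or_eq_true, Bool.and_eq_true, Bool.or_eq_true] at h1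
  rw [Bool.or_eq_true, Bool.or_eq_true]
  rcases h1 with h1 | ⟨-, h1 | h1⟩
  · exact Or.inl (Or.inl h1)
  · exact Or.inl (Or.inr h1)
  · exact Or.inr (bfsF_spec 40 [m] [m] rfl h1)

end Cfsg.Agent.H806.Ls.Three
end

-- part: H806/LsFiThree
section
prune_inst 0x7f00000000000000000000000000000000000000000000000000000000000000000000000000000000000000000000000000000000000000000000000000000000000000000000000000000000000000003fffffffffffffffffffffffffffbeffbdffffffff
set_option linter.all false
open scoped Cfsg.Agent.FastGrp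

-- part: H806/LsThreeT
section
/-!
# The affine Weyl group of type `E₆` with the spider relation (helper806)

`Ctx t g`: `t 0, …, t 5` a quotient of the Weyl group of type `E₆`, `g` the affine node, the tenth power of the spider is
`1`. The translations `X t g i` commute, have order dividing 3, and the Weyl group acts as on the root lattice.
-/

set_option autoImplicit false
set_option linter.unusedSectionVars false

universe u v w

namespace Cfsg.Agent.H806.Ls.Three

open Cfsg.Agent.H921.Spor.Cox Cfsg.Agent.ChevalleyStructure.WeylData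

variable {G : Type u} [Group G]

/-- The situation. -/
structure Ctx (t : ℕ → G) (g : G) : Prop where
  pre : Pre certE6 t
  gg : g * g = 1
  gt : ∀ a, a < 6 → a ≠ 1 → g * t a = t a * g
  g1 : g * t 1 * g = t 1 * g * t 1
  sp : (ev t ws * g) ^ 10 = 1

/-- the translation by the highest root -/
def T (t : ℕ → G) (g : G) : G := g * ev t th6

/-- the conjugates of `T` -/
def u (t : ℕ → G) (g : G) (w : List ℕ) : G := ev t w * T t g * (ev t w)⁻¹

/-- the translations by the simple roots -/
def X (t : ℕ → G) (g : G) (i : ℕ) : G := u t g (W.getD i [])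

variable {t : ℕ → G} {g : G}

theorem ev_one (t : ℕ → G) (a : ℕ) : ev t [a] = t a := by rw [ev_cons, ev_nil, mul_one]

theorem u_append (w w' : List ℕ) : u t g (w ++ w') = ev t w * u t g w' * (ev t w)⁻¹ := by
  unfold u
  rw [ev_append, mul_inv_rev]
  group

theorem u_nil : u t g [] = T t g := by
  unfold u
  rw [ev_nil, one_mul, inv_one, mul_one]

theorem u_cons (a : ℕ) (w : List ℕ) : u t g (a :: w) = t a * u t g w * (t a)⁻¹ := by
  have := u_append (t := t) (g := g) [a] w
  rwa [ev_one] at this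

namespace Ctx

variable (h : Ctx t g)

include h

theorem ss : ev t th6 * ev t th6 = 1 := by
  have := h.pre.eq check_ss
  rwa [ev_append, ev_nil] at this

theorem s_comm {a : ℕ} (h1 : a < 6) (h2 : a ≠ 1) : t a * ev t th6 = ev t th6 * t a := by
  have h3 := List.all_eq_true.1 check_st a (by
    have : ∀ a < 6, a ≠ 1 → a ∈ [0, 2, 3, 4, 5] := by decide
    exact this a h1 h2)
  have h4 := h.pre.eq h3
  rwa [ev_cons, ev_append, ev_one] at h4

theorem T_comm {a : ℕ} (h1 : a < 6) (h2 : a ≠ 1) : t a * T t g = T t g * t a := by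
  unfold T
  rw [← mul_assoc, ← h.gt a h1 h2, mul_assoc, mul_assoc, h.s_comm h1 h2]

theorem T_comm_word {l : List ℕ} (hl : ∀ a ∈ l, a < 6 ∧ a ≠ 1) : ev t l * T t g = T t g * ev t l := by
  induction l with
  | nil => simp
  | cons a l ih =>
    obtain ⟨h1, h2⟩ := hl a List.mem_cons_self
    rw [ev_cons, mul_assoc, ih fun b hb => hl b (List.mem_cons_of_mem _ hb), ← mul_assoc, h.T_comm h1 h2, mul_assoc]

theorem g_comm_word {l : List ℕ} (hl : ∀ a ∈ l, a < 6 ∧ a ≠ 1) : g * ev t l = ev t l * g := by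
  induction l with
  | nil => simp
  | cons a l ih =>
    obtain ⟨h1, h2⟩ := hl a List.mem_cons_self
    rw [ev_cons, ← mul_assoc, h.gt a h1 h2, mul_assoc, ih fun b hb => hl b (List.mem_cons_of_mem _ hb), mul_assoc]

theorem u_same {w w' l : List ℕ} (hs : same w w' l = true) : u t g w' = u t g w := by
  unfold same at hs
  rw [Bool.and_eq_true, List.all_eq_true] at hs
  have h1 : ∀ a ∈ l, a < 6 ∧ a ≠ 1 := by
    intro a ha
    have := hs.1 a ha
    rw [Bool.and_eq_true] at this
    refine ⟨by simpa using this.1, ?_⟩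
    intro h0
    rw [h0] at this
    exact absurd this.2 (by decide)
  have h2 := h.T_comm_word h1
  unfold u
  rw [h.pre.eq hs.2, ev_append, mul_inv_rev]
  calc ev t w * ev t l * T t g * ((ev t l)⁻¹ * (ev t w)⁻¹)
      = ev t w * (ev t l * T t g) * (ev t l)⁻¹ * (ev t w)⁻¹ := by group
    _ = ev t w * T t g * (ev t w)⁻¹ := by rw [h2]; group

theorem u_neg (w : List ℕ) : u t g (w ++ th6) = (u t g w)⁻¹ := by
  have h1 : ev t th6 * T t g * (ev t th6)⁻¹ = (T t g)⁻¹ := by
    unfold T
    rw [inv_eq_of_mul_eq_one_left h.ss, mul_inv_rev, inv_eq_of_mul_eq_one_left h.ss, inv_eq_of_mul_eq_one_left h.gg]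
    calc ev t th6 * (g * ev t th6) * ev t th6 = ev t th6 * g * (ev t th6 * ev t th6) := by group
      _ = _ := by rw [h.ss, mul_one]
  rw [u_append]
  unfold u
  rw [h1]
  group

theorem aa : t 1 * t 1 = 1 := h.pre.sq (by norm_num)

theorem bb : ev t bw * ev t bw = 1 := by
  have h1 : eqW certE6 (bw ++ bw) [] = true := by decide +kernel
  have := h.pre.eq h1
  rwa [ev_append, ev_nil] at this

theorem gbg : g * ev t bw * g = ev t bw * g * ev t bw := by
  have h1 := h.g_comm_word (l := wb) (by decide)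
  have h2 : ev t bw = ev t wb * t 1 * (ev t wb)⁻¹ := by
    unfold bw
    rw [ev_append, ev_append, ev_one, h.pre.ev_reverse (w := wb) (by decide), mul_assoc]
  rw [h2]
  generalize ev t wb = v at h1
  have h3 : v⁻¹ * g = g * v⁻¹ := by rw [inv_mul_eq_iff_eq_mul, ← mul_assoc, ← h1]; group
  calc g * (v * t 1 * v⁻¹) * g = (g * v) * t 1 * (v⁻¹ * g) := by group
    _ = v * (g * t 1 * g) * v⁻¹ := by rw [h1, h3]; group
    _ = v * t 1 * g * t 1 * v⁻¹ := by rw [h.g1]; group
    _ = v * t 1 * (v⁻¹ * (v * g)) * t 1 * v⁻¹ := by group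
    _ = v * t 1 * (v⁻¹ * (g * v)) * t 1 * v⁻¹ := by rw [h1]
    _ = _ := by group

theorem u_one : u t g [1] = t 1 * T t g * t 1 := by
  have h1 : (t 1)⁻¹ = t 1 := inv_eq_of_mul_eq_one_left h.aa
  unfold u
  rw [ev_one, h1]

theorem u_bw : u t g bw = ev t bw * T t g * ev t bw := by
  have h1 : (ev t bw)⁻¹ = ev t bw := inv_eq_of_mul_eq_one_left h.bb
  unfold u
  rw [h1]

theorem s_aba : ev t th6 = t 1 * (ev t bw * t 1) := by
  have := h.pre.eq check_aba
  rwa [ev_append, ev_append, ev_one] at this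

theorem s_bab : ev t th6 = ev t bw * (t 1 * ev t bw) := by
  have := h.pre.eq check_bab
  rwa [ev_append, ev_append, ev_one] at this

theorem add0 : u t g bw * u t g [1] = u t g [] ∧ u t g [1] * u t g bw = u t g [] := by
  have e1 : u t g [1] = t 1 * g * t 1 * ev t bw := by
    rw [h.u_one]
    unfold T
    rw [h.s_aba]
    calc t 1 * (g * (t 1 * (ev t bw * t 1))) * t 1 = t 1 * g * t 1 * ev t bw * (t 1 * t 1) := by group
      _ = _ := by rw [h.aa, mul_one]
  have e2 : u t g bw = ev t bw * g * ev t bw * t 1 := by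
    rw [h.u_bw]
    unfold T
    rw [h.s_bab]
    calc ev t bw * (g * (ev t bw * (t 1 * ev t bw))) * ev t bw
        = ev t bw * g * ev t bw * t 1 * (ev t bw * ev t bw) := by group
      _ = _ := by rw [h.bb, mul_one]
  constructor
  · rw [e1, e2, u_nil]
    unfold T
    rw [h.s_bab]
    calc ev t bw * g * ev t bw * t 1 * (t 1 * g * t 1 * ev t bw)
        = ev t bw * g * ev t bw * (t 1 * t 1) * g * t 1 * ev t bw := by group
      _ = ev t bw * (g * ev t bw * g) * t 1 * ev t bw := by rw [h.aa]; group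
      _ = (ev t bw * ev t bw) * g * (ev t bw * (t 1 * ev t bw)) := by rw [h.gbg]; group
      _ = _ := by rw [h.bb, one_mul]
  · rw [e1, e2, u_nil]
    unfold T
    rw [h.s_aba]
    calc t 1 * g * t 1 * ev t bw * (ev t bw * g * ev t bw * t 1)
        = t 1 * g * t 1 * (ev t bw * ev t bw) * g * ev t bw * t 1 := by group
      _ = t 1 * (g * t 1 * g) * ev t bw * t 1 := by rw [h.bb]; group
      _ = (t 1 * t 1) * g * (t 1 * (ev t bw * t 1)) := by rw [h.g1]; group
      _ = _ := by rw [h.aa, one_mul]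

theorem add (w : List ℕ) : u t g (w ++ bw) * u t g (w ++ [1]) = u t g w := by
  have h1 := h.add0.1
  rw [u_append w bw, u_append w [1]]
  have h2 : u t g w = ev t w * u t g [] * (ev t w)⁻¹ := by
    have := u_append (t := t) (g := g) w []
    rwa [List.append_nil] at this
  rw [h2, ← h1]
  group

theorem add' (w : List ℕ) : u t g (w ++ [1]) * u t g (w ++ bw) = u t g w := by
  have h1 := h.add0.2
  rw [u_append w bw, u_append w [1]]
  have h2 : u t g w = ev t w * u t g [] * (ev t w)⁻¹ := by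
    have := u_append (t := t) (g := g) w []
    rwa [List.append_nil] at this
  rw [h2, ← h1]
  group

theorem comm (w : List ℕ) : u t g (w ++ bw) * u t g (w ++ [1]) = u t g (w ++ [1]) * u t g (w ++ bw) := by
  rw [h.add, h.add']

theorem comm_base : u t g [] * u t g (W.getD 0 []) = u t g (W.getD 0 []) * u t g [] := by
  have c0 := h.u_same check0
  have c1 := h.u_same check1
  have c2 := h.u_same check2
  have c3 := h.u_same check3
  have c4 := h.u_same check4
  -- `T` commutes with the two factors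
  have d1 : u t g [] * u t g (wp ++ bw) = u t g (wp ++ bw) * u t g [] := by
    rw [c1, c2]
    have e1 := h.add v1
    have e2 := h.add' v1
    calc u t g v1 * u t g (v1 ++ [1]) = u t g (v1 ++ [1]) * u t g (v1 ++ bw) * u t g (v1 ++ [1]) := by rw [e2]
      _ = u t g (v1 ++ [1]) * (u t g (v1 ++ bw) * u t g (v1 ++ [1])) := by group
      _ = _ := by rw [e1]
  have d2 : u t g [] * u t g (wp ++ [1]) = u t g (wp ++ [1]) * u t g [] := by
    rw [c3, c4]
    exact h.comm v2
  rw [c0, ← h.add wp, ← mul_assoc, d1, mul_assoc, d2, mul_assoc]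

theorem comm_orth (w : List ℕ) : u t g w * u t g (w ++ W.getD 0 []) = u t g (w ++ W.getD 0 []) * u t g w := by
  have h1 := h.comm_base
  have h2 : u t g w = ev t w * u t g [] * (ev t w)⁻¹ := by
    have := u_append (t := t) (g := g) w []
    rwa [List.append_nil] at this
  rw [u_append w (W.getD 0 []), h2]
  calc ev t w * u t g [] * (ev t w)⁻¹ * (ev t w * u t g (W.getD 0 []) * (ev t w)⁻¹)
      = ev t w * (u t g [] * u t g (W.getD 0 [])) * (ev t w)⁻¹ := by group
    _ = ev t w * (u t g (W.getD 0 []) * u t g []) * (ev t w)⁻¹ := by rw [h1]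
    _ = _ := by group

theorem X_comm {i j : ℕ} (hi : i < 6) (hj : j < 6) : X t g i * X t g j = X t g j * X t g i := by
  have key : ∀ i < 6, ∀ j < 6, i < j → X t g i * X t g j = X t g j * X t g i := by
    intro i hi j hj hij
    have hcov : (∃ e ∈ DA, e.1 = i ∧ e.2.1 = j) ∨ (∃ e ∈ DO, e.1 = i ∧ e.2.1 = j) := by
      have : ∀ i < 6, ∀ j < 6, i < j → (DA.any fun e => Nat.beq e.1 i && Nat.beq e.2.1 j) = true ∨
        (DO.any fun e => Nat.beq e.1 i && Nat.beq e.2.1 j) = true := by decide
      rcases this i hi j hj hij with h1 | h1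
      · left
        rw [List.any_eq_true] at h1
        obtain ⟨e, he, h1⟩ := h1
        rw [Bool.and_eq_true] at h1
        exact ⟨e, he, Nat.eq_of_beq_eq_true h1.1, Nat.eq_of_beq_eq_true h1.2⟩
      · right
        rw [List.any_eq_true] at h1
        obtain ⟨e, he, h1⟩ := h1
        rw [Bool.and_eq_true] at h1
        exact ⟨e, he, Nat.eq_of_beq_eq_true h1.1, Nat.eq_of_beq_eq_true h1.2⟩
    rcases hcov with ⟨e, he, rfl, rfl⟩ | ⟨e, he, rfl, rfl⟩
    · have h1 := List.all_eq_true.1 checkDA e he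
      rw [Bool.and_eq_true, Bool.and_eq_true] at h1
      unfold X
      rw [h.u_same h1.1, h.u_same h1.2.1]
      exact h.comm _
    · have h1 := List.all_eq_true.1 checkDO e he
      rw [Bool.and_eq_true] at h1
      unfold X
      rw [h.u_same h1.1, h.u_same h1.2]
      exact h.comm_orth _
  rcases lt_trichotomy i j with hij | rfl | hij
  · exact key i hi j hj hij
  · rfl
  · exact (key j hj i hi hij).symm

/-- the action -/
theorem X_conj {i a : ℕ} (hi : i < 6) (ha : a < 6) : t a * X t g i * (t a)⁻¹ =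
    if i = a then (X t g i)⁻¹ else if adj a i then X t g i * X t g a else X t g i := by
  by_cases hia : i = a
  · subst hia
    rw [if_pos rfl]
    have h1 := h.pre.eq (List.all_eq_true.1 checkDD i (List.mem_range.2 hi))
    unfold X
    rw [← u_cons, ← h.u_neg]
    unfold u
    rw [h1]
  rw [if_neg hia]
  have hcov : (adj a i = true ∧ ∃ e ∈ DA, e.1 = i ∧ e.2.1 = a) ∨ (adj a i = false ∧ ∃ e ∈ DC, e.1 = a ∧ e.2.1 = i) := by
    have : ∀ i < 6, ∀ a < 6, i ≠ a → (adj a i = true ∧ (DA.any fun e => Nat.beq e.1 i && Nat.beq e.2.1 a) = true) ∨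
      (adj a i = false ∧ (DC.any fun e => Nat.beq e.1 a && Nat.beq e.2.1 i) = true) := by decide +kernel
    rcases this i hi a ha hia with ⟨h0, h1⟩ | ⟨h0, h1⟩
    · left
      rw [List.any_eq_true] at h1
      obtain ⟨e, he, h1⟩ := h1
      rw [Bool.and_eq_true] at h1
      exact ⟨h0, e, he, Nat.eq_of_beq_eq_true h1.1, Nat.eq_of_beq_eq_true h1.2⟩
    · right
      rw [List.any_eq_true] at h1
      obtain ⟨e, he, h1⟩ := h1
      rw [Bool.and_eq_true] at h1
      exact ⟨h0, e, he, Nat.eq_of_beq_eq_true h1.1, Nat.eq_of_beq_eq_true h1.2⟩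
  rcases hcov with ⟨h0, e, he, rfl, rfl⟩ | ⟨h0, e, he, rfl, rfl⟩
  · rw [if_pos h0]
    have h1 := List.all_eq_true.1 checkDA e he
    rw [Bool.and_eq_true, Bool.and_eq_true] at h1
    unfold X
    rw [← u_cons, h.u_same h1.2.2, h.u_same h1.1, h.u_same h1.2.1]
    exact (h.add _).symm
  · rw [if_neg (by rw [h0]; decide)]
    have h1 := List.all_eq_true.1 checkDC e he
    unfold X
    rw [← u_cons, h.u_same h1]

end Ctx

/-! ### The group of translations -/

/-- the group generated by the translations -/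
def E (t : ℕ → G) (g : G) : Subgroup G := Subgroup.closure {x | ∃ i < 6, X t g i = x}

namespace Ctx

variable (h : Ctx t g)

include h

theorem X_mem {i : ℕ} (hi : i < 6) : X t g i ∈ E t g := Subgroup.subset_closure ⟨i, hi, rfl⟩

theorem E_comm {a b : G} (ha : a ∈ E t g) (hb : b ∈ E t g) : a * b = b * a := by
  have hcomm : ∀ a ∈ {x | ∃ i < 6, X t g i = x}, ∀ b ∈ {x | ∃ i < 6, X t g i = x}, a * b = b * a := by
    rintro _ ⟨i, hi, rfl⟩ _ ⟨j, hj, rfl⟩
    exact h.X_comm hi hj
  have h1 : IsMulCommutative (E t g) := Subgroup.isMulCommutative_closure hcomm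
  exact congrArg Subtype.val (h1.is_comm.comm (⟨a, ha⟩ : E t g) ⟨b, hb⟩)

theorem norm1 {a : ℕ} (ha : a < 6) {e : G} (he : e ∈ E t g) : t a * e * (t a)⁻¹ ∈ E t g := by
  unfold E at he
  induction he using Subgroup.closure_induction with
  | mem y hy =>
    obtain ⟨i, hi, rfl⟩ := hy
    rw [h.X_conj hi ha]
    split_ifs
    · exact (E t g).inv_mem (h.X_mem hi)
    · exact (E t g).mul_mem (h.X_mem hi) (h.X_mem ha)
    · exact h.X_mem hi
  | one => simp
  | mul y z hy hz h1 h2 =>
    have := (E t g).mul_mem h1 h2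
    convert this using 1
    group
  | inv y hy h1 =>
    have := (E t g).inv_mem h1
    convert this using 1
    group

theorem norm {w : List ℕ} (hw : ∀ a ∈ w, a < 6) {e : G} (he : e ∈ E t g) : ev t w * e * (ev t w)⁻¹ ∈ E t g := by
  induction w with
  | nil => simpa using he
  | cons a w ih =>
    have h1 := h.norm1 (hw a List.mem_cons_self) (ih fun b hb => hw b (List.mem_cons_of_mem _ hb))
    rw [ev_cons]
    convert h1 using 1
    group

theorem T_mem : T t g ∈ E t g := by
  have h1 := h.norm (w := (W.getD 0 []).reverse) (by decide) (h.X_mem (i := 0) (by norm_num))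
  rw [h.pre.ev_reverse (w := W.getD 0 []) (by decide)] at h1
  unfold X u at h1
  convert h1 using 1
  group

theorem u_mem {w : List ℕ} (hw : ∀ a ∈ w, a < 6) : u t g w ∈ E t g := h.norm hw h.T_mem

end Ctx

/-! ### The spider relation -/

theorem mul_pow_conj (y x : G) (n : ℕ) :
    (y * x) ^ n = ((List.range n).map fun k => x ^ k * y * (x ^ k)⁻¹).prod * x ^ n := by
  induction n with
  | zero => simp
  | succ n ih =>
    rw [pow_succ, ih, List.range_succ, List.map_append, List.prod_append, List.map_singleton, List.prod_singleton,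
      pow_succ]
    group

theorem prod_collect {L : List ℕ} {f : ℕ → G} {e : ℕ → ℤ} {x : G} (hx : ∀ k ∈ L, x * f k = f k * x) :
    (L.map fun k => f k * x ^ e k).prod = (L.map f).prod * x ^ (L.map e).sum := by
  induction L with
  | nil => simp
  | cons k L ih =>
    rw [List.map_cons, List.prod_cons, ih fun j hj => hx j (List.mem_cons_of_mem _ hj), List.map_cons,
      List.prod_cons, List.map_cons, List.sum_cons, zpow_add]
    have h1 : Commute (x ^ e k) ((L.map f).prod) := by
      apply Commute.zpow_left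
      have : ∀ M : List ℕ, (∀ j ∈ M, x * f j = f j * x) → Commute x ((M.map f).prod) := by
        intro M hM
        induction M with
        | nil => simp
        | cons j M ih =>
          rw [List.map_cons, List.prod_cons]
          exact Commute.mul_right (hM j List.mem_cons_self) (ih fun i hi => hM i (List.mem_cons_of_mem _ hi))
      exact this L fun j hj => hx j (List.mem_cons_of_mem _ hj)
    calc f k * x ^ e k * ((L.map f).prod * x ^ (L.map e).sum)
        = f k * (x ^ e k * (L.map f).prod) * x ^ (L.map e).sum := by group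
      _ = f k * ((L.map f).prod * x ^ e k) * x ^ (L.map e).sum := by rw [h1.eq]
      _ = _ := by group

namespace Ctx

variable (h : Ctx t g)

include h

theorem xs_lt : ∀ a ∈ xs, a < 6 := by decide

theorem rp_lt {w : List ℕ} (hw : ∀ a ∈ w, a < 6) (k : ℕ) : ∀ a ∈ rp w k, a < 6 := by
  induction k with
  | zero => intro a ha; exact absurd ha (by simp [rp])
  | succ k ih =>
    intro a ha
    rcases List.mem_append.1 (show a ∈ w ++ rp w k from ha) with h1 | h1
    · exact hw a h1
    · exact ih a h1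

/-- the factors of the tenth power -/
theorem prod_one : ((List.range 10).map fun k => u t g (rp xs k ++ ws)).prod = 1 := by
  have h1 : ev t ws * g = u t g ws * ev t xs := by
    unfold u T xs
    rw [ev_append]
    calc ev t ws * g = ev t ws * g * (ev t th6 * ev t th6) := by rw [h.ss, mul_one]
      _ = _ := by group
  have h2 := h.sp
  rw [h1, mul_pow_conj] at h2
  have h3 : ev t xs ^ 10 = 1 := by
    rw [← ev_rp, h.pre.eq check_xs, ev_nil]
  rw [h3, mul_one] at h2
  have h4 : ((List.range 10).map fun k => u t g (rp xs k ++ ws)) =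
      (List.range 10).map fun k => ev t xs ^ k * u t g ws * (ev t xs ^ k)⁻¹ := by
    apply List.map_congr_left
    intro k _
    rw [u_append, ev_rp]
  rw [h4]
  exact h2

theorem X3_cube : X t g 3 ^ 3 = 1 := by
  have h1 : ∀ k ∈ List.range 10, t 3 * u t g (rp xs k ++ ws) * (t 3)⁻¹ =
      u t g (rp xs k ++ ws) * X t g 3 ^ (SP.getD k (0, [], [], [], [])).1 := by
    intro k hk
    have h2 := List.all_eq_true.1 checkSP k hk
    rw [← u_cons]
    generalize SP.getD k (0, [], [], [], []) = e at h2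
    unfold chkSP at h2
    split_ifs at h2 with h3 h4
    · rw [h.u_same h2, h3, zpow_zero, mul_one]
    · rw [Bool.and_eq_true, Bool.and_eq_true] at h2
      rw [h4, zpow_one, h.u_same h2.2.2]
      unfold X
      rw [h.u_same h2.1, h.u_same h2.2.1]
      exact (h.add _).symm
    · rw [Bool.and_eq_true, Bool.and_eq_true, Bool.and_eq_true] at h2
      have h5 : e.1 = -1 := by simpa using h2.1
      rw [h5, zpow_neg_one, eq_mul_inv_iff_mul_eq, h.u_same h2.2.2.2]
      unfold X
      rw [h.u_same h2.2.1, h.u_same h2.2.2.1]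
      exact h.add _
  have h2 := h.prod_one
  have h3 : (((List.range 10).map fun k => u t g (rp xs k ++ ws)).map (MulAut.conj (t 3))).prod = 1 := by
    rw [← map_list_prod, h2, map_one]
  rw [List.map_map] at h3
  have h4 : (List.range 10).map (MulAut.conj (t 3) ∘ fun k => u t g (rp xs k ++ ws)) =
      (List.range 10).map fun k => u t g (rp xs k ++ ws) * X t g 3 ^ (SP.getD k (0, [], [], [], [])).1 := by
    apply List.map_congr_left
    intro k hk
    exact h1 k hk
  rw [h4, prod_collect (f := fun k => u t g (rp xs k ++ ws)) (e := fun k => (SP.getD k (0, [], [], [], [])).1) (by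
    intro k _
    refine h.E_comm (h.X_mem (by norm_num)) (h.u_mem ?_)
    intro a ha
    rcases List.mem_append.1 ha with h5 | h5
    · exact h.rp_lt h.xs_lt k a h5
    · exact (by decide : ∀ a ∈ ws, a < 6) a h5), h2, one_mul, sumSP] at h3
  exact_mod_cast h3

theorem T_cube : T t g ^ 3 = 1 := by
  have h1 := h.X3_cube
  have h2 : T t g = (ev t (W.getD 3 []))⁻¹ * X t g 3 * ev t (W.getD 3 []) := by
    unfold X u; group
  have h3 : (T t g) ^ 3 = (ev t (W.getD 3 []))⁻¹ * X t g 3 ^ 3 * ev t (W.getD 3 []) := by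
    rw [h2, pow_succ, pow_two, pow_succ, pow_two]; group
  rw [h3, h1]; group

theorem X_cube (i : ℕ) : X t g i ^ 3 = 1 := by
  have h3 : X t g i ^ 3 = ev t (W.getD i []) * T t g ^ 3 * (ev t (W.getD i []))⁻¹ := by
    unfold X u
    rw [pow_succ, pow_two, pow_succ, pow_two]; group
  rw [h3, h.T_cube]; group

end Ctx

end Cfsg.Agent.H806.Ls.Three
end

-- part: H806/LsThree
section
/-!
# The bound `LS 3 16 T` from the affine Weyl group of type `E₆` with the spider relation (helper806)
-/

set_option autoImplicit false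
set_option linter.unusedSectionVars false

universe u v w

namespace Cfsg.Agent.H806.Ls.Three

open Cfsg.Agent.H921.Spor Cfsg.Agent.H921.Spor.Cox Cfsg.Agent.ChevalleyStructure.WeylData

section Lift

variable {P : Type v} [Group P] {G : Type u} [Group G] {π : P →* G} (h : CE π) {t : ℕ → G} {g : G} (hc : Ctx t g)

theorem eq_one_of {G : Type*} [Group G] {z : G} (h2 : z * z = 1) (h3 : z ^ 3 = 1) : z = 1 := by
  rw [pow_succ, pow_two, h2, one_mul] at h3; exact h3

include h in
theorem mul_cube {x z : P} (hz : π z = 1) : (x * z) ^ 3 = x ^ 3 * z ^ 3 := by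
  have : Commute x z := h.cen z hz x
  exact this.mul_pow 3

theorem br_one {a : G} {x : P} (hax : a * π x = π x * a) (ha : a * a = 1) (hx : π x ^ 3 = 1) : h.cj a x = x := by
  rw [h.cj_fix_iff]
  have h2 := h.br_sq hax ha
  refine eq_one_of h2 ?_
  have h4 : h.cj a (x ^ 3) = x ^ 3 := h.cj_ker a (by rw [map_pow, hx])
  rw [map_pow, h.cj_br a x, mul_cube h (h.br_ker hax)] at h4
  exact mul_eq_left.1 h4

include hc

theorem tt {a : ℕ} (ha : a < 6) : t a * t a = 1 := hc.pre.sq ha

theorem cj_cj {a : ℕ} (ha : a < 6) (x : P) : h.cj (t a) (h.cj (t a) x) = x := by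
  rw [← MulAut.mul_apply, ← map_mul, tt hc ha, map_one, MulAut.one_apply]

theorem exists_lift {i : ℕ} (hi : i < 6) : ∃ y : P, π y = X t g i ∧ y ^ 3 = 1 ∧ h.cj (t i) y = y⁻¹ := by
  obtain ⟨x, hx⟩ := h.surj (X t g i)
  obtain ⟨y', hy'⟩ : ∃ y', y' = h.cj (t i) x * x⁻¹ := ⟨_, rfl⟩
  have hX := hc.X_cube i
  have e1 : h.cj (t i) y' = y'⁻¹ := by
    rw [hy', map_mul, cj_cj h hc hi, map_inv]; group
  have e2 : π y' = X t g i := by
    rw [hy', map_mul, map_inv, h.map_cj, hx, hc.X_conj hi hi, if_pos rfl]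
    have h1 : X t g i * (X t g i * X t g i) = 1 := by rw [← hX, pow_succ, pow_two]; group
    rw [← mul_inv_rev, inv_eq_iff_mul_eq_one, mul_assoc, h1]
  have e3 : π (y' ^ 3) = 1 := by rw [map_pow, e2, hX]
  have e4 : y' ^ 3 * y' ^ 3 = 1 := by
    have h1 := h.cj_ker (t i) e3
    rw [map_pow, e1, inv_pow] at h1
    exact inv_eq_iff_mul_eq_one.1 h1
  refine ⟨y' ^ 4, ?_, ?_, ?_⟩
  · rw [map_pow, e2]
    calc X t g i ^ 4 = X t g i ^ 3 * X t g i := by rw [pow_succ]
      _ = _ := by rw [hX, one_mul]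
  · calc (y' ^ 4) ^ 3 = (y' ^ 3 * y' ^ 3) * (y' ^ 3 * y' ^ 3) := by group
      _ = 1 := by rw [e4, one_mul]
  · rw [map_pow, e1, inv_pow]

/-- The system of lifts. -/
structure Sys (h : CE π) (t : ℕ → G) (g : G) (y : ℕ → P) : Prop where
  map : ∀ i < 6, π (y i) = X t g i
  cube : ∀ i < 6, y i ^ 3 = 1
  neg : ∀ i < 6, h.cj (t i) (y i) = (y i)⁻¹

theorem exists_sys : ∃ y : ℕ → P, Sys h t g y := by
  have h1 : ∀ i, ∃ y : P, i < 6 → π y = X t g i ∧ y ^ 3 = 1 ∧ h.cj (t i) y = y⁻¹ := by
    intro i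
    by_cases hi : i < 6
    · obtain ⟨y, hy⟩ := exists_lift h hc hi
      exact ⟨y, fun _ => hy⟩
    · exact ⟨1, fun h => absurd h hi⟩
  choose y hy using h1
  exact ⟨y, fun i hi => (hy i hi).1, fun i hi => (hy i hi).2.1, fun i hi => (hy i hi).2.2⟩

variable {y : ℕ → P} (hy : Sys h t g y)

include hy

/-- up to a central factor -/
theorem cj_y {i a : ℕ} (hi : i < 6) (ha : a < 6) (hia : i ≠ a) : ∃ z : P, π z = 1 ∧
    h.cj (t a) (y i) = (if adj a i then y i * y a else y i) * z := by
  refine ⟨(if adj a i then y i * y a else y i)⁻¹ * h.cj (t a) (y i), ?_, by group⟩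
  rw [map_mul, map_inv, h.map_cj, hy.map i hi, hc.X_conj hi ha, if_neg hia]
  split_ifs with h1
  · rw [map_mul, hy.map i hi, hy.map a ha]; group
  · rw [hy.map i hi]; group

theorem y_comm {i j : ℕ} (hi : i < 6) (hj : j < 6) : y i * y j = y j * y i := by
  by_cases hij : i = j
  · rw [hij]
  obtain ⟨z, hz⟩ : ∃ z, z = y i * y j * (y i)⁻¹ * (y j)⁻¹ := ⟨_, rfl⟩
  have hzk : π z = 1 := by
    rw [hz, map_mul, map_mul, map_mul, map_inv, map_inv, hy.map i hi, hy.map j hj, hc.X_comm hi hj]; group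
  have hzc := h.cen z hzk
  have e0 : y i * y j = z * (y j * y i) := by rw [hz]; group
  -- the action of `t i`
  have e1 : z * z = 1 := by
    have h1 := h.cj_ker (t i) hzk
    have h2 : h.cj (t i) z = (y i)⁻¹ * (y j * y i) * (y j)⁻¹ := by
      obtain ⟨c, hck, hcj⟩ := cj_y h hc hy hj hi (Ne.symm hij)
      have hcc := h.cen c hck
      rw [hz, map_mul, map_mul, map_mul, map_inv, map_inv, hy.neg i hi, hcj]
      split_ifs
      · have e3 : y j * y i * c * (y i)⁻¹⁻¹ = y j * y i * y i * c := by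
          rw [inv_inv, mul_assoc, ← hcc, ← mul_assoc]
        calc (y i)⁻¹ * (y j * y i * c) * (y i)⁻¹⁻¹ * (y j * y i * c)⁻¹
            = (y i)⁻¹ * (y j * y i * c * (y i)⁻¹⁻¹) * (y j * y i * c)⁻¹ := by group
          _ = _ := by rw [e3]; group
      · have e3 : y j * c * (y i)⁻¹⁻¹ = y j * y i * c := by
          rw [inv_inv, mul_assoc, ← hcc, ← mul_assoc]
        calc (y i)⁻¹ * (y j * c) * (y i)⁻¹⁻¹ * (y j * c)⁻¹
            = (y i)⁻¹ * (y j * c * (y i)⁻¹⁻¹) * (y j * c)⁻¹ := by group
          _ = _ := by rw [e3]; group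
    rw [h2] at h1
    have e3 : y j * y i = z⁻¹ * (y i * y j) := by rw [e0]; group
    rw [e3] at h1
    have e4 : z⁻¹ = z := by
      have h5 : (y i)⁻¹ * z⁻¹ = z⁻¹ * (y i)⁻¹ := h.cen z⁻¹ (by rw [map_inv, hzk, inv_one]) _
      calc z⁻¹ = z⁻¹ * (y i)⁻¹ * (y i * y j) * (y j)⁻¹ := by group
        _ = (y i)⁻¹ * z⁻¹ * (y i * y j) * (y j)⁻¹ := by rw [h5]
        _ = (y i)⁻¹ * (z⁻¹ * (y i * y j)) * (y j)⁻¹ := by group
        _ = z := h1
    exact inv_eq_iff_mul_eq_one.1 e4
  have e2 : z ^ 3 = 1 := by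
    have h3 : ∀ n : ℕ, y i ^ n * y j = z ^ n * (y j * y i ^ n) := by
      intro n
      induction n with
      | zero => simp
      | succ n ih =>
        have h4 : y i ^ n * z = z * y i ^ n := hzc _
        calc y i ^ (n + 1) * y j = y i ^ n * (y i * y j) := by rw [pow_succ]; group
          _ = (y i ^ n * z) * y j * y i := by rw [e0]; group
          _ = z * (y i ^ n * y j) * y i := by rw [h4]; group
          _ = _ := by rw [ih, pow_succ, pow_succ]; group
    have h4 := h3 3
    rw [hy.cube i hi, one_mul, mul_one] at h4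
    exact mul_eq_right.1 h4.symm
  have e3 := eq_one_of e1 e2
  rw [e0, e3, one_mul]

theorem y_conj {i a : ℕ} (hi : i < 6) (ha : a < 6) : h.cj (t a) (y i) =
    if i = a then (y i)⁻¹ else if adj a i then y i * y a else y i := by
  by_cases hia : i = a
  · subst hia
    rw [if_pos rfl]; exact hy.neg i hi
  rw [if_neg hia]
  by_cases hadj : adj a i = true
  · rw [if_pos hadj]
    obtain ⟨z, hz, h1⟩ := cj_y h hc hy hi ha hia
    rw [if_pos hadj] at h1
    have e1 : z ^ 3 = 1 := by
      have h2 : h.cj (t a) (y i) ^ 3 = 1 := by rw [← map_pow, hy.cube i hi, map_one]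
      rw [h1, mul_cube h hz] at h2
      have h3 : Commute (y i) (y a) := y_comm h hc hy hi ha
      rwa [h3.mul_pow, hy.cube i hi, hy.cube a ha, one_mul, one_mul] at h2
    have e2 : z * z = 1 := by
      have h2 := congrArg (h.cj (t a)) h1
      rw [cj_cj h hc ha, map_mul, map_mul, h1, hy.neg a ha, h.cj_ker _ hz] at h2
      have h3 : y i * y a * z * (y a)⁻¹ * z = y i * (z * z) := by
        have h4 := h.cen z hz (y a)
        calc y i * y a * z * (y a)⁻¹ * z = y i * (y a * z) * (y a)⁻¹ * z := by group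
          _ = _ := by rw [h4]; group
      rw [h3] at h2
      exact mul_eq_left.1 h2.symm
    rw [h1, eq_one_of e2 e1, mul_one]
  · rw [if_neg hadj]
    refine br_one h ?_ (tt hc ha) (by rw [hy.map i hi, hc.X_cube])
    rw [hy.map i hi]
    have h1 := hc.X_conj hi ha
    rw [if_neg hia, if_neg hadj, mul_inv_eq_iff_eq_mul] at h1
    exact h1

end Lift

/-! ### Labels -/

theorem step_spec {m a : ℕ} (hm : m < 4096) (hv : valid m = true) (ha : a < 6) :
    step m a < 4096 ∧ valid (step m a) = true ∧ ∀ i < 6, dg (step m a) i =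
      if i = a then (dg m a + dg m a) % 3 else if adj i a then (dg m i + dg m a) % 3 else dg m i := by
  have h1 := List.all_eq_true.1 check_step m (List.mem_range.2 hm)
  rw [hv, Bool.not_true, Bool.false_or] at h1
  have h2 := List.all_eq_true.1 h1 a (List.mem_range.2 ha)
  rw [Bool.and_eq_true] at h2
  have h3 : ∀ i < 6, dg (step m a) i =
      if i = a then (dg m a + dg m a) % 3 else if adj i a then (dg m i + dg m a) % 3 else dg m i := fun i hi =>
    Nat.eq_of_beq_eq_true (List.all_eq_true.1 h2.2 i (List.mem_range.2 hi))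
  have hd : ∀ i < 6, dg m i < 3 := by
    intro i hi
    have := List.all_eq_true.1 hv i (List.mem_range.2 hi)
    simpa using this
  refine ⟨by simpa using h2.1, ?_, h3⟩
  rw [valid, List.all_eq_true]
  intro i hi
  have hi' := List.mem_range.1 hi
  rw [h3 i hi']
  have : (if i = a then (dg m a + dg m a) % 3 else if adj i a then (dg m i + dg m a) % 3 else dg m i) < 3 := by
    split_ifs
    · exact Nat.mod_lt _ (by norm_num)
    · exact Nat.mod_lt _ (by norm_num)
    · exact hd i hi'
  simpa using this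

theorem dg_ext {m m' : ℕ} (hm : m < 4096) (hm' : m' < 4096) (h : ∀ i < 6, dg m i = dg m' i) : m = m' := by
  have h0 := h 0 (by norm_num)
  have h1 := h 1 (by norm_num)
  have h2 := h 2 (by norm_num)
  have h3 := h 3 (by norm_num)
  have h4 := h 4 (by norm_num)
  have h5 := h 5 (by norm_num)
  unfold dg at h0 h1 h2 h3 h4 h5
  norm_num at h0 h1 h2 h3 h4 h5
  omega

theorem exists_label (c : ℕ → ℕ) (hc : ∀ i < 6, c i < 3) : ∃ m < 4096, valid m = true ∧ ∀ i < 6, dg m i = c i := by
  have c0 := hc 0 (by norm_num)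
  have c1 := hc 1 (by norm_num)
  have c2 := hc 2 (by norm_num)
  have c3 := hc 3 (by norm_num)
  have c4 := hc 4 (by norm_num)
  have c5 := hc 5 (by norm_num)
  have key : ∀ i < 6, dg (c 0 + 4 * c 1 + 16 * c 2 + 64 * c 3 + 256 * c 4 + 1024 * c 5) i = c i := by
    intro i hi
    unfold dg
    interval_cases i <;> norm_num <;> omega
  refine ⟨_, by omega, ?_, key⟩
  rw [valid, List.all_eq_true]
  intro i hi
  rw [key i (List.mem_range.1 hi)]
  have := hc i (List.mem_range.1 hi)
  simpa using this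

/-- reachable labels -/
def Reach (m y : ℕ) : Prop := ∃ w : List ℕ, (∀ a ∈ w, a < 6) ∧ w.foldl step m = y

theorem reach_bfs (m : ℕ) (k : ℕ) (p : List ℕ × List ℕ) (h1 : ∀ y ∈ p.1, Reach m y) (h2 : ∀ y ∈ p.2, Reach m y) :
    ∀ y ∈ bfs k p, Reach m y := by
  induction k generalizing p with
  | zero => exact h1
  | succ k ih =>
    unfold bfs
    split_ifs with h3
    · exact h1
    · obtain ⟨s, q⟩ := p
      cases q with
      | nil => exact h1
      | cons x q =>
        simp only
        have key : ∀ (L : List ℕ), (∀ a ∈ L, a < 6) → ∀ p : List ℕ × List ℕ, (∀ y ∈ p.1, Reach m y) →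
            (∀ y ∈ p.2, Reach m y) → (∀ y ∈ (L.foldl (ins x) p).1, Reach m y) ∧
              ∀ y ∈ (L.foldl (ins x) p).2, Reach m y := by
          intro L
          induction L with
          | nil => intro _ p h3 h4; exact ⟨h3, h4⟩
          | cons a L ih2 =>
            intro hL p h3 h4
            rw [List.foldl_cons]
            apply ih2 fun b hb => hL b (List.mem_cons_of_mem _ hb)
            · unfold ins
              simp only
              split_ifs
              · exact h3
              · intro y hy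
                rcases List.mem_cons.1 hy with rfl | hy
                · obtain ⟨w, hw1, hw2⟩ := h2 x List.mem_cons_self
                  refine ⟨w ++ [a], ?_, by rw [List.foldl_append, hw2]; rfl⟩
                  intro b hb
                  rcases List.mem_append.1 hb with hb | hb
                  · exact hw1 b hb
                  · rw [List.mem_singleton.1 hb]; exact hL a List.mem_cons_self
                · exact h3 y hy
            · unfold ins
              simp only
              split_ifs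
              · exact h4
              · intro y hy
                rcases List.mem_append.1 hy with hy | hy
                · exact h4 y hy
                · rw [List.mem_singleton.1 hy]
                  obtain ⟨w, hw1, hw2⟩ := h2 x List.mem_cons_self
                  refine ⟨w ++ [a], ?_, by rw [List.foldl_append, hw2]; rfl⟩
                  intro b hb
                  rcases List.mem_append.1 hb with hb | hb
                  · exact hw1 b hb
                  · rw [List.mem_singleton.1 hb]; exact hL a List.mem_cons_self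
        obtain ⟨k1, k2⟩ := key (List.range 6) (fun a ha => List.mem_range.1 ha) (s, q) h1
          (fun y hy => h2 y (List.mem_cons_of_mem _ hy))
        exact ih _ k1 k2

end Cfsg.Agent.H806.Ls.Three

namespace Cfsg.Agent.H806.Ls

open Three Cfsg.Agent.H203.LS Cfsg.Agent.H921.Spor Cfsg.Agent.H921.Spor.Cox

/-- **The bound.** -/
theorem ls_three {T : Type u} [Group T] [IsSimpleGroup T] {t : ℕ → T} {g : T} (hc : Three.Ctx t g)
    (hT : Three.T t g ≠ 1) : LS.{u, v, w} 3 16 T := by
  apply LS.of_core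
  intro P _ π k _ _ V _ _ _ ρ hcore
  classical
  have h : CE π := ⟨hcore.surj, fun c hc g => hcore.comm_ker hc g⟩
  obtain ⟨y, hy⟩ := exists_sys h hc
  have hcomm : ∀ i j : Fin 6, ρ (y i) * ρ (y j) = ρ (y j) * ρ (y i) := by
    intro i j
    rw [← map_mul, y_comm h hc hy i.2 j.2, map_mul]
  have hXne : π (y 3) ≠ 1 := by
    rw [hy.map 3 (by norm_num)]
    unfold X Three.u
    intro h1
    apply hT
    have h2 := mul_inv_eq_one.1 h1
    exact mul_eq_left.1 h2
  have hne : ρ (y ((3 : Fin 6) : ℕ)) ≠ 1 := by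
    intro h1
    refine hcore.not_scalar hXne (s := 1) ?_
    intro v
    have h2 : ρ (y 3) = 1 := h1
    rw [h2, one_smul]; rfl
  obtain ⟨v, χ, hv, hχ, hχ3⟩ := exists_weight (fun j : Fin 6 => ρ (y j)) hcomm (j0 := 3) (N := 3)
    hcore.rk (by rw [← map_pow]; exact (congrArg ρ (hy.cube 3 (by norm_num))).trans (map_one ρ)) hne
  have : NeZero ((3 : ℕ) : k) := ⟨hcore.rk⟩
  obtain ⟨ζ, hζ⟩ := HasEnoughRootsOfUnity.exists_primitiveRoot k 3
  have hζ3 : ζ ^ 3 = 1 := hζ.pow_eq_one
  have hcube : ∀ j, χ j ^ 3 = 1 := by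
    intro j
    have h0 : ρ (y j) v = χ j • v := hχ j
    have h1 : ρ (y j ^ 3) v = (χ j ^ 3) • v := by
      rw [pow_succ, pow_two, map_mul, map_mul, Module.End.mul_apply, Module.End.mul_apply, h0, map_smul, map_smul, h0,
        map_smul, h0, smul_smul, smul_smul]
      congr 1; ring
    rw [hy.cube j j.2, map_one, Module.End.one_apply] at h1
    have h2 : (χ j ^ 3 - 1) • v = 0 := by rw [sub_smul, one_smul, ← h1, sub_self]
    exact sub_eq_zero.1 ((smul_eq_zero.1 h2).resolve_right hv)
  have hc1 : ∀ j : Fin 6, ∃ n < 3, ζ ^ n = χ j := fun j => hζ.eq_pow_of_pow_eq_one (hcube j)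
  choose cc hcc3 hcc using hc1
  obtain ⟨m, hm, hmv, hmd⟩ := exists_label (fun i => if hi : i < 6 then cc ⟨i, hi⟩ else 0) (by
    intro i hi
    rw [dif_pos hi]; exact hcc3 _)
  have hmd' : ∀ i (hi : i < 6), dg m i = cc ⟨i, hi⟩ := fun i hi => by rw [hmd i hi, dif_pos hi]
  have hcv : ∀ i < 6, ρ (y i) v = ζ ^ dg m i • v := by
    intro i hi
    rw [hmd' i hi, hcc]
    exact hχ ⟨i, hi⟩
  have hmod : ∀ n : ℕ, ζ ^ (n % 3) = ζ ^ n := by
    intro n
    conv_rhs => rw [← Nat.mod_add_div n 3, pow_add, pow_mul, hζ3, one_pow, mul_one]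
  -- the conjugates
  have hfun : ∀ w : List ℕ, (∀ a ∈ w, a < 6) → ∀ (p : T) (m : ℕ), m < 4096 → valid m = true →
      (∀ i < 6, ρ (h.cj p (y i)) v = ζ ^ dg m i • v) → w.foldl step m < 4096 ∧ valid (w.foldl step m) = true ∧
      ∀ i < 6, ρ (h.cj (p * ev t w) (y i)) v = ζ ^ dg (w.foldl step m) i • v := by
    intro w
    induction w with
    | nil =>
      intro _ p m hm hv hc
      refine ⟨hm, hv, fun i hi => ?_⟩
      rw [ev_nil, mul_one]
      exact hc i hi
    | cons a w ih =>
      intro hw p m hm hv' hc'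
      have ha := hw a List.mem_cons_self
      obtain ⟨s1, s2, s3⟩ := step_spec hm hv' ha
      have h1 := ih (fun b hb => hw b (List.mem_cons_of_mem _ hb)) (p * t a) (step m a) s1 s2 (by
          intro i hi
          rw [map_mul, MulAut.mul_apply, y_conj h hc hy hi ha, s3 i hi]
          by_cases hia : i = a
          · subst hia
            rw [if_pos rfl, if_pos rfl, map_inv, hmod]
            have h2 := hc' i hi
            -- the inverse
            have h3 : ρ (h.cj p (y i))⁻¹ (ρ (h.cj p (y i)) v) = v := by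
              rw [← Module.End.mul_apply, ← map_mul, inv_mul_cancel, map_one, Module.End.one_apply]
            rw [h2, map_smul] at h3
            have h4 : ζ ^ (dg m i + dg m i) * ζ ^ dg m i = 1 := by
              rw [← pow_add]
              have : dg m i + dg m i + dg m i = 3 * dg m i := by ring
              rw [this, pow_mul, hζ3, one_pow]
            calc ρ (h.cj p (y i))⁻¹ v = (ζ ^ (dg m i + dg m i) * ζ ^ dg m i) • ρ (h.cj p (y i))⁻¹ v := by
                  rw [h4, one_smul]
              _ = ζ ^ (dg m i + dg m i) • (ζ ^ dg m i • ρ (h.cj p (y i))⁻¹ v) := by rw [smul_smul]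
              _ = _ := by rw [h3]
          · rw [if_neg hia, if_neg hia]
            have hsym : adj a i = adj i a := by
              have : ∀ a < 6, ∀ i < 6, adj a i = adj i a := by decide
              exact this a ha i hi
            rw [hsym]
            by_cases hadj : adj i a = true
            · rw [if_pos hadj, if_pos hadj, map_mul, map_mul, Module.End.mul_apply, hc' a ha, map_smul, hc' i hi,
                smul_smul, hmod, pow_add, mul_comm]
            · rw [if_neg hadj, if_neg hadj]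
              exact hc' i hi)
      obtain ⟨h2, h3, h4⟩ := h1
      rw [List.foldl_cons]
      refine ⟨h2, h3, fun i hi => ?_⟩
      have := h4 i hi
      rwa [mul_assoc, ← ev_cons] at this
  have hm0 : m ≠ 0 := by
    rintro rfl
    apply hχ3
    have h1 := hmd' 3 (by norm_num)
    have h2 : dg 0 3 = 0 := by decide
    rw [h2] at h1
    have h3 := hcc 3
    have h4 : cc 3 = 0 := h1.symm
    rw [h4, pow_zero] at h3
    exact h3.symm
  have hcnt : Nat.ble 16 (cnt (bfs 40 ([m], [m]))) = true := by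
    have h1 := List.all_eq_true.1 check_orb m (List.mem_range.2 hm)
    rw [hmv, Bool.not_true, Bool.false_or, Bool.or_eq_true] at h1
    rcases h1 with h1 | h1
    · exact absurd (Nat.eq_of_beq_eq_true h1) hm0
    · exact h1
  have h3 : 16 ≤ (bfs 40 ([m], [m])).toFinset.card := le_trans (Nat.le_of_ble_eq_true hcnt) (cnt_le _)
  obtain ⟨I, hI1, hI2⟩ := Finset.exists_subset_card_eq h3
  have h4 : ∀ y ∈ I, Reach m y := by
    intro y hy
    refine reach_bfs m 40 ([m], [m]) ?_ ?_ y (List.mem_toFinset.1 (hI1 hy))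
    · intro y hy
      rw [List.mem_singleton.1 hy]
      exact ⟨[], by simp, rfl⟩
    · intro y hy
      rw [List.mem_singleton.1 hy]
      exact ⟨[], by simp, rfl⟩
  choose! τ hτ1 hτ2 using h4
  have hw1 : ∀ z ∈ I, z < 4096 ∧ ∀ i < 6, ρ (h.cj (ev t (τ z)) (y i)) v = ζ ^ dg z i • v := by
    intro z hz
    have h5 := hfun (τ z) (hτ1 z hz) 1 m hm hmv (by
      intro i hi
      rw [map_one, MulAut.one_apply]
      exact hcv i hi)
    rw [hτ2 z hz, one_mul] at h5
    exact ⟨h5.1, h5.2.2⟩
  have hdig : ∀ z ∈ I, ∀ i < 6, dg z i < 3 := by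
    intro z hz i hi
    have h5 := hfun (τ z) (hτ1 z hz) 1 m hm hmv (by
      intro i hi
      rw [map_one, MulAut.one_apply]
      exact hcv i hi)
    rw [hτ2 z hz] at h5
    have := List.all_eq_true.1 h5.2.1 i (List.mem_range.2 hi)
    simpa using this
  -- the weight vectors
  choose σ hσ using h.surj
  have hfin := card_le_of_weights (k := k) (V := V) (ι := I) (J := Fin 6) (fun j => ρ (y j))
    (fun z => ρ (σ (ev t (τ z)))⁻¹ v) (fun z j => ζ ^ dg z j) (fun z => hcore.ne_zero _ hv) (by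
      intro z j
      have h5 := (hw1 z z.2).2 j j.2
      have h6 : h.cj (ev t (τ z)) (y j) = σ (ev t (τ z)) * y j * (σ (ev t (τ z)))⁻¹ := by
        rw [← h.cj_eq, hσ]
      rw [h6] at h5
      rw [← Module.End.mul_apply, ← map_mul]
      have h7 : y j * (σ (ev t (τ z)))⁻¹ =
          (σ (ev t (τ z)))⁻¹ * (σ (ev t (τ z)) * y j * (σ (ev t (τ z)))⁻¹) := by group
      rw [h7, map_mul, Module.End.mul_apply, h5, map_smul]) (by
      intro z z' hzz
      apply Subtype.ext
      refine dg_ext (hw1 z z.2).1 (hw1 z' z'.2).1 ?_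
      intro i hi
      exact hζ.pow_inj (hdig z z.2 i hi) (hdig z' z'.2 i hi) (congrFun hzz ⟨i, hi⟩))
  have h8 : Nat.card I = 16 := by rw [Nat.card_eq_fintype_card, Fintype.card_coe, hI2]
  rw [h8] at hfin
  exact hfin

end Cfsg.Agent.H806.Ls
end

-- part: H806/LsFiThree
section
/-!
# `LS 3 16` for `Fi₂₂`, `Fi₂₃`, `B`, `M` (helper806)
-/

set_option autoImplicit false

universe u v w

namespace Cfsg.Agent.H806.Ls

open Cfsg Cfsg.Spor Cfsg.Agent.H921.Spor Cfsg.Agent.H921.Spor.Cox Cfsg.Agent.H921.Spor.Fi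
open Cfsg.Agent.ChevalleyStructure.WeylData Cfsg.Agent.H920 Cfsg.Agent.H203.LS
open Cfsg.Agent.H920.FiTwo (gn_sq gn_comm gn_braid comm_ev)

section Twist

variable {G : Type u} [Group G] {t : ℕ → G} {g z : G}

theorem three_twist (hc : Three.Ctx t g) (hz : z * z = 1) (hzt : ∀ a, a < 6 → z * t a = t a * z)
    (hzg : z * g = g * z) :
    Three.Ctx (fun a => t a * z) (g * z) ∧ Three.T (fun a => t a * z) (g * z) = Three.T t g := by
  have e0 : ∀ a, a < 6 → ∀ x, t a * z * (x * z) = t a * (z * x * z) := fun a _ x => by group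
  have hzz : ∀ x, z * x = x * z → z * x * z = x := fun x hx => by rw [hx, mul_assoc, hz, mul_one]
  have es : ev (fun a => t a * z) Three.th6 = ev t Three.th6 * z := by
    rw [ev_twist _ fun a ha => hzt a ((by decide : ∀ a ∈ Three.th6, a < 6) a ha)]
    have h1 : Three.th6.length = 2 * 10 + 1 := by decide
    rw [h1, pow_succ, pow_mul, pow_two, hz, one_pow, one_mul]
  have ew : ev (fun a => t a * z) Three.ws = ev t Three.ws := by
    rw [ev_twist _ fun a ha => hzt a ((by decide : ∀ a ∈ Three.ws, a < 6) a ha)]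
    have h1 : Three.ws.length = 2 * 4 := by decide
    rw [h1, pow_mul, pow_two, hz, one_pow, mul_one]
  have hzs : z * ev t Three.th6 = ev t Three.th6 * z :=
    comm_ev fun a ha => hzt a ((by decide : ∀ a ∈ Three.th6, a < 6) a ha)
  have hzw : z * ev t Three.ws = ev t Three.ws * z :=
    comm_ev fun a ha => hzt a ((by decide : ∀ a ∈ Three.ws, a < 6) a ha)
  refine ⟨⟨?_, ?_, ?_, ?_, ?_⟩, ?_⟩
  · intro a ha b hb
    rw [e0 a ha, hzz _ (hzt b hb)]
    exact hc.pre a ha b hb
  · calc g * z * (g * z) = g * (z * g * z) := by group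
      _ = 1 := by rw [hzz _ hzg, hc.gg]
  · intro a h1 h2
    calc g * z * (t a * z) = g * (z * t a * z) := by group
      _ = t a * (z * g * z) := by rw [hzz _ (hzt a h1), hzz _ hzg, hc.gt a h1 h2]
      _ = _ := by group
  · calc g * z * (t 1 * z) * (g * z) = g * (z * t 1 * z) * g * z := by group
      _ = t 1 * g * t 1 * z := by rw [hzz _ (hzt 1 (by norm_num)), hc.g1]
      _ = t 1 * (z * g * z) * t 1 * z := by rw [hzz _ hzg]
      _ = _ := by group
  · rw [ew, ← mul_assoc]
    have h1 : Commute (ev t Three.ws * g) z := by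
      have h2 : Commute z (ev t Three.ws) := hzw
      have h3 : Commute z g := hzg
      exact (h2.mul_right h3).symm
    rw [h1.mul_pow, hc.sp, one_mul]
    have h2 : z ^ 10 = (z * z) ^ 5 := by rw [← pow_two, ← pow_mul]
    rw [h2, hz, one_pow]
  · unfold Three.T
    rw [es]
    calc g * z * (ev t Three.th6 * z) = g * (z * ev t Three.th6 * z) := by group
      _ = _ := by rw [hzz _ hzs]

/-- The twisted elements in a subgroup. -/
theorem three_sub {K : Subgroup G} (hc : Three.Ctx t g) (hz : z * z = 1) (hzt : ∀ a, a < 6 → z * t a = t a * z)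
    (hzg : z * g = g * z) (hK : ∀ a, a < 6 → t a * z ∈ K) (hgK : g * z ∈ K) :
    ∃ (t' : ℕ → K) (g' : K), Three.Ctx t' g' ∧ ((Three.T t' g' : K) : G) = Three.T t g := by
  classical
  obtain ⟨h1, h2⟩ := three_twist hc hz hzt hzg
  let t' : ℕ → K := fun a => if ha : t a * z ∈ K then ⟨_, ha⟩ else 1
  have ht : ∀ a, a < 6 → (t' a : G) = t a * z := by
    intro a ha
    have : t' a = ⟨_, hK a ha⟩ := dif_pos (hK a ha)
    rw [this]
  have hs : ((ev t' Three.th6 : K) : G) = ev (fun a => t a * z) Three.th6 := by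
    rw [coe_ev]; exact ev_congr fun a ha => ht a ((by decide : ∀ a ∈ Three.th6, a < 6) a ha)
  have hw : ((ev t' Three.ws : K) : G) = ev (fun a => t a * z) Three.ws := by
    rw [coe_ev]; exact ev_congr fun a ha => ht a ((by decide : ∀ a ∈ Three.ws, a < 6) a ha)
  refine ⟨t', ⟨_, hgK⟩, ⟨?_, ?_, ?_, ?_, ?_⟩, ?_⟩
  · intro a ha b hb
    apply Subtype.ext
    rw [Subgroup.coe_pow, Subgroup.coe_mul, ht a ha, ht b hb]
    exact h1.pre a ha b hb
  · exact Subtype.ext h1.gg
  · intro a ha hb
    apply Subtype.ext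
    rw [Subgroup.coe_mul, Subgroup.coe_mul, ht a ha]
    exact h1.gt a ha hb
  · apply Subtype.ext
    rw [Subgroup.coe_mul, Subgroup.coe_mul, Subgroup.coe_mul, Subgroup.coe_mul, ht 1 (by norm_num)]
    exact h1.g1
  · apply Subtype.ext
    rw [Subgroup.coe_pow, Subgroup.coe_mul, hw]
    exact h1.sp
  · rw [← h2]
    unfold Three.T
    rw [Subgroup.coe_mul, hs]

/-- the word carrying the simple root `5` to the highest root -/
def vw : List ℕ := [1, 3, 4, 2, 3, 0, 2, 1, 3, 4]

/-- Criterion for `T ≠ 1`: a node attached to `t 5` only. -/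
theorem three_ne_one (hc : Three.Ctx t g) {j : G} (hj : ∀ a, a < 5 → j * t a = t a * j) (hjg : j * g = g * j)
    (hb : j * t 5 * j = t 5 * j * t 5) (hjj : j * j = 1) (hne : g * t 1 ≠ 1) : Three.T t g ≠ 1 := by
  intro hT
  have h1 : g = ev t Three.th6 := by
    unfold Three.T at hT
    rw [← inv_eq_of_mul_eq_one_left hc.ss]
    exact eq_inv_of_mul_eq_one_left hT
  have hv : ev t Three.th6 = ev t vw * t 5 * (ev t vw)⁻¹ := by
    have h2 : eqW certE6 Three.th6 (vw ++ ([5] ++ vw.reverse)) = true := by decide +kernel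
    rw [hc.pre.eq h2, ev_append, ev_append, Three.ev_one, hc.pre.ev_reverse (w := vw) (by decide), mul_assoc]
  have hjv : j * ev t vw = ev t vw * j := comm_ev fun a ha => hj a ((by decide : ∀ a ∈ vw, a < 5) a ha)
  have hbr : j * g * j = g * j * g := by
    rw [h1, hv]
    generalize ev t vw = v at hjv
    have h3 : v⁻¹ * j = j * v⁻¹ := by rw [inv_mul_eq_iff_eq_mul, ← mul_assoc, ← hjv]; group
    calc j * (v * t 5 * v⁻¹) * j = (j * v) * t 5 * (v⁻¹ * j) := by group
      _ = v * (j * t 5 * j) * v⁻¹ := by rw [hjv, h3]; group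
      _ = v * t 5 * j * t 5 * v⁻¹ := by rw [hb]; group
      _ = v * t 5 * (v⁻¹ * (v * j)) * t 5 * v⁻¹ := by group
      _ = v * t 5 * (v⁻¹ * (j * v)) * t 5 * v⁻¹ := by rw [hjv]
      _ = _ := by group
  have hgj : g = j := by
    have e1 : j * g * j = g := by rw [hjg, mul_assoc, hjj, mul_one]
    have e2 : g * j * g = j := by rw [← hjg, mul_assoc, hc.gg, mul_one]
    rw [← e1, hbr, e2]
  -- now `g` commutes with `t 1`
  have h2 := hj 1 (by norm_num)
  rw [← hgj] at h2
  have h3 := hc.g1
  have h4 : t 1 * t 1 = 1 := hc.pre.sq (by norm_num)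
  rw [h2, mul_assoc, hc.gg, mul_one] at h3
  -- `t 1 = g`
  apply hne
  have h5 : t 1 * g * t 1 = g := by rw [← h2, mul_assoc, h4, mul_one]
  have h6 : t 1 = g := by
    have h7 : t 1 = t 1 * g * t 1 := by rw [← h2] at h3 ⊢; exact h3
    rw [h7, h5]
  rw [h6, hc.gg]

end Twist

section General

variable {α : Type} [DecidableEq α] {edges : List (α × ℕ × α)} {extra : List (FreeGroup α)}

/-- The context from a diagram. -/
theorem three_of {f : ℕ → α} {y : α} (hn : ∀ x : α, x ∈ coxNodes edges) (hs : Fi.sub certE6 edges f = true)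
    (hy : ∀ a < 6, a ≠ 1 → coxLabel edges y (f a) = 2) (hy1 : coxLabel edges y (f 1) = 3)
    (hsp : (ev (fun a => gn edges extra (f a)) Three.ws * gn edges extra y) ^ 10 = 1) :
    Three.Ctx (fun a => gn edges extra (f a)) (gn edges extra y) where
  pre := Fi.pre certE6 f hs
  gg := gn_sq (hn _)
  gt := fun a h1 h2 => gn_comm (hn _) (hn _) (hy a h1 h2)
  g1 := gn_braid (hn _) (hn _) hy1
  sp := hsp

end General

/-! ### `Fi₂₂` -/

/-- the nodes of the diagram of type `E₆` -/
def e22 (a : ℕ) : Fi22.Gen := [Fi22.Gen.b, .h, .c, .d, .e, .f].getD a .b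

theorem three22 : Three.Ctx (fun a => g22 (e22 a)) (g22 .i) :=
  three_of nodes22 (by decide +kernel) (by decide) (by decide) (by
    have h2 : ev (fun a => g22 (e22 a)) Three.ws * g22 .i =
        g22 .d * g22 .c * g22 .b * g22 .d * g22 .e * g22 .f * g22 .d * g22 .h * g22 .i := by
      unfold Three.ws
      simp only [ev_cons, ev_nil, mul_one, mul_assoc]
      rfl
    change (ev (fun a => g22 (e22 a)) Three.ws * g22 .i) ^ 10 = 1
    rw [h2]
    exact PresentedGroup.one_of_mem (rels := coxRelators Fi22.edges ∪ {r | r ∈ Fi22.extra})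
      (x := (Fi22.d * Fi22.c * Fi22.b * Fi22.d * Fi22.e * Fi22.f * Fi22.d * Fi22.h * Fi22.i) ^ 10) (Or.inr (by
        change _ ∈ Fi22.extra
        unfold Fi22.extra
        simp)))

theorem fi22_ls_three [IsSimpleGroup Fi22] (hnc : ∃ g h : Fi22, g * h ≠ h * g) : LS.{0, v, w} 3 16 Fi22 := by
  refine ls_three three22 (three_ne_one three22 (j := g22 .g) ?_ (gn_comm (nodes22 _) (nodes22 _) (by decide))
    (gn_braid (nodes22 _) (nodes22 _) (by decide)) (gn_sq (nodes22 _))
    (ne_of_nc hnc .i .h 8 (by decide) (by decide) (by intro x; cases x <;> decide)))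
  intro a ha
  have : ∀ a < 5, coxLabel Fi22.edges .g (e22 a) = 2 := by decide
  exact gn_comm (nodes22 _) (nodes22 _) (this a ha)

/-! ### `Fi₂₃` -/

abbrev g23 (x : Fi23.Gen) : Fi23 := gn Fi23.edges Fi23.extra x

/-- the nodes of the diagram of type `E₆` -/
def e23 (a : ℕ) : Fi23.Gen := [Fi23.Gen.b, .h, .c, .d, .e, .f].getD a .b

theorem three23 : Three.Ctx (fun a => g23 (e23 a)) (g23 .i) :=
  three_of nodes23 (by decide +kernel) (by decide) (by decide) (by
    have h2 : ev (fun a => g23 (e23 a)) Three.ws * g23 .i =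
        g23 .d * g23 .c * g23 .b * g23 .d * g23 .e * g23 .f * g23 .d * g23 .h * g23 .i := by
      unfold Three.ws
      simp only [ev_cons, ev_nil, mul_one, mul_assoc]
      rfl
    change (ev (fun a => g23 (e23 a)) Three.ws * g23 .i) ^ 10 = 1
    rw [h2]
    exact PresentedGroup.one_of_mem (rels := coxRelators Fi23.edges ∪ {r | r ∈ Fi23.extra})
      (x := (Fi23.d * Fi23.c * Fi23.b * Fi23.d * Fi23.e * Fi23.f * Fi23.d * Fi23.h * Fi23.i) ^ 10) (Or.inr (by
        change _ ∈ Fi23.extra
        unfold Fi23.extra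
        simp)))

theorem fi23_ls_three [IsSimpleGroup Fi23] (hnc : ∃ g h : Fi23, g * h ≠ h * g) : LS.{0, v, w} 3 16 Fi23 := by
  refine ls_three three23 (three_ne_one three23 (j := g23 .g) ?_ (gn_comm (nodes23 _) (nodes23 _) (by decide))
    (gn_braid (nodes23 _) (nodes23 _) (by decide)) (gn_sq (nodes23 _))
    (ne_of_nc hnc .i .h 11 (by decide) (by decide) (by intro x; cases x <;> decide)))
  intro a ha
  have : ∀ a < 5, coxLabel Fi23.edges .g (e23 a) = 2 := by decide
  exact gn_comm (nodes23 _) (nodes23 _) (this a ha)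

/-! ### `B` -/

/-- the nodes of the diagram of type `E₆` -/
def eB (a : ℕ) : BabyMonster.Gen := [BabyMonster.Gen.t3, .t9, .t4, .t5, .t6, .t7].getD a .t3

theorem threeB : Three.Ctx (fun a => gB (eB a)) (gB .t10) :=
  three_of nodesB (by decide +kernel) (by decide) (by decide) (by
    have h2 : ev (fun a => gB (eB a)) Three.ws * gB .t10 =
        gB .t5 * gB .t4 * gB .t3 * gB .t5 * gB .t6 * gB .t7 * gB .t5 * gB .t9 * gB .t10 := by
      unfold Three.ws
      simp only [ev_cons, ev_nil, mul_one, mul_assoc]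
      rfl
    change (ev (fun a => gB (eB a)) Three.ws * gB .t10) ^ 10 = 1
    rw [h2]
    exact PresentedGroup.one_of_mem (rels := coxRelators BabyMonster.edges ∪ {r | r ∈ BabyMonster.extra})
      (x := (BabyMonster.t5 * BabyMonster.t4 * BabyMonster.t3 * BabyMonster.t5 * BabyMonster.t6 * BabyMonster.t7 *
        BabyMonster.t5 * BabyMonster.t9 * BabyMonster.t10) ^ 10) (Or.inr (by
        change _ ∈ BabyMonster.extra
        unfold BabyMonster.extra
        simp)))

theorem b_ls_three [IsSimpleGroup BabyMonster] (hnc : ∃ g h : BabyMonster, g * h ≠ h * g) :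
    LS.{0, v, w} 3 16 BabyMonster := by
  refine ls_three threeB (three_ne_one threeB (j := gB .t8) ?_ (gn_comm (nodesB _) (nodesB _) (by decide))
    (gn_braid (nodesB _) (nodesB _) (by decide)) (gn_sq (nodesB _))
    (ne_of_nc hnc .t10 .t9 11 (by decide) (by decide) (by intro x; cases x <;> decide)))
  intro a ha
  have : ∀ a < 5, coxLabel BabyMonster.edges .t8 (eB a) = 2 := by decide
  exact gn_comm (nodesB _) (nodesB _) (this a ha)

/-! ### `M` -/

/-- the nodes of the diagram of type `E₆` -/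
def eM (a : ℕ) : Bimonster.Gen := [Bimonster.Gen.c1, .b3, .b1, .a, .b2, .c2].getD a .a

theorem threeM : Three.Ctx (fun a => gM (eM a)) (gM .c3) :=
  three_of nodesM (by decide +kernel) (by decide) (by decide) (by
    have h2 : ev (fun a => gM (eM a)) Three.ws * gM .c3 =
        gM .a * gM .b1 * gM .c1 * gM .a * gM .b2 * gM .c2 * gM .a * gM .b3 * gM .c3 := by
      unfold Three.ws
      simp only [ev_cons, ev_nil, mul_one, mul_assoc]
      rfl
    change (ev (fun a => gM (eM a)) Three.ws * gM .c3) ^ 10 = 1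
    rw [h2]
    exact PresentedGroup.one_of_mem (rels := coxRelators Bimonster.edges ∪ {r | r ∈ Bimonster.extra})
      (x := (Bimonster.a * Bimonster.b1 * Bimonster.c1 * Bimonster.a * Bimonster.b2 * Bimonster.c2 *
        Bimonster.a * Bimonster.b3 * Bimonster.c3) ^ 10) (Or.inr (by
        change _ ∈ Bimonster.extra
        unfold Bimonster.extra
        simp)))

theorem m_ls_three [IsSimpleGroup Monster] (hnc : ∃ g h : Monster, g * h ≠ h * g) : LS.{0, v, w} 3 16 Monster := by
  obtain ⟨e⟩ := exists_equiv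
  have := simple_of_equiv e
  refine LS.congr e.symm ?_
  obtain ⟨t', g', h1, h2⟩ := three_sub (K := Subgroup.centralizer {gM .f3} ⊓ commutator Bimonster) (z := gM .f3)
    threeM (gn_sq (nodesM _)) (by
      intro a ha
      have : ∀ a < 6, coxLabel Bimonster.edges .f3 (eM a) = 2 := by decide
      exact gn_comm (nodesM _) (nodesM _) (this a ha))
    (gn_comm (nodesM _) (nodesM _) (by decide)) (fun a ha => m_mem_centr (by
      have : ∀ a < 6, coxLabel Bimonster.edges .f3 (eM a) = 2 := by decide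
      exact this a ha)) (m_mem_centr (by decide))
  refine ls_three h1 ?_
  intro h3
  rw [h3] at h2
  refine three_ne_one threeM (j := gM .d2) ?_ (gn_comm (nodesM _) (nodesM _) (by decide))
    (gn_braid (nodesM _) (nodesM _) (by decide)) (gn_sq (nodesM _))
    (ne_of_nc (M_nc hnc) .c3 .b3 16 (by decide) (by decide) (by intro x; cases x <;> decide)) h2.symm
  intro a ha
  have : ∀ a < 5, coxLabel Bimonster.edges .d2 (eM a) = 2 := by decide
  exact gn_comm (nodesM _) (nodesM _) (this a ha)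

end Cfsg.Agent.H806.Ls
end

private theorem dce_c327a2d68450 : _root_.True := by
  try have : _root_.True := by simp only [_root_.Cfsg.Agent.H806.Ls.Three.valid.eq_1]
  try have : _root_.True := by simp only [_root_.Cfsg.Agent.H806.Ls.Three.bfs.eq_def]
  exact _root_.True.intro
end

-- part: H806/LsFiLe
section
set_option linter.all false
open scoped Cfsg.Agent.FastGrp

/-!
# `Fi₂₂`, `Fi₂₃`, `B`, `M`: every projective representation of a cover has degree at least 16
(every characteristic, every cover; helper806)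
-/

set_option autoImplicit false

universe u v

namespace Cfsg.Agent.H806.Ls

open Cfsg Cfsg.Agent.H912.Bd Cfsg.Agent.H915.LD Cfsg.Agent.H489.Deg Cfsg.Agent.H203.LS

variable {p : ℕ} (hp : p.Prime) {F : Type u} [Field F] [Finite F] [CharP F p] {n : ℕ}
  {P : Subgroup (Matrix.GeneralLinearGroup (Fin n) F)} (hC : Cfsg.Agent.H915.LD.Core P)

include hC in
theorem nc_of_core {T : Type v} [Group T] (e : Soc P ≃* T) : ∃ g h : T, g * h ≠ h * g := by
  by_contra hcon
  push Not at hcon
  apply hC.nonabelian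
  refine ⟨⟨fun a b => ?_⟩⟩
  apply e.injective
  rw [map_mul, map_mul, hcon]

include hp hC

theorem le_of_two_three {T : Type v} [Group T] (e : Soc P ≃* T)
    (h2 : ∀ [IsSimpleGroup T], (∃ g h : T, g * h ≠ h * g) → LS.{v, u, u} 2 28 T)
    (h3 : ∀ [IsSimpleGroup T], (∃ g h : T, g * h ≠ h * g) → LS.{v, u, u} 3 16 T) : 16 ≤ n := by
  have hs : IsSimpleGroup T := (MulEquiv.isSimpleGroup_congr e).1 hC.simple
  have hnc := nc_of_core hC e
  by_cases hp3 : p = 3
  · have := le_of_ls (h2 hnc) (cast_ne (F := F) hp Nat.prime_two (by omega)) P hC.perfect e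
    omega
  · exact le_of_ls (h3 hnc) (cast_ne (F := F) hp Nat.prime_three hp3) P hC.perfect e

theorem fi22_le (e : Soc P ≃* Cfsg.Spor.Fi22) : 16 ≤ n :=
  le_of_two_three hp hC e fi22_ls_two fi22_ls_three

theorem fi23_le (e : Soc P ≃* Cfsg.Spor.Fi23) : 16 ≤ n :=
  le_of_two_three hp hC e fi23_ls_two fi23_ls_three

theorem b_le (e : Soc P ≃* Cfsg.Spor.BabyMonster) : 16 ≤ n :=
  le_of_two_three hp hC e b_ls_two b_ls_three

theorem m_le (e : Soc P ≃* Cfsg.Spor.Monster) : 16 ≤ n :=
  le_of_two_three hp hC e m_ls_two m_ls_three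

end Cfsg.Agent.H806.Ls
end
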